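import Cfsg.Agent.H113.PSU.Rank3_m3
import Cfsg.Agent.H619.R4.SporBase
import Cfsg.Agent.H305.SporHS
import Cfsg.Agent.H904.HSIso
import Cfsg.Agent.H713.Two.Sing_m3
import Cfsg.Agent.KFacts.HS.Base
import Cfsg.Agent.H665.SporCo
import Cfsg.Agent.H462.RealJ.Crit
import Cfsg.Agent.H419.TwoTrans_m3
import Cfsg.Agent.H685.R4.Base_m3
import Cfsg.Agent.H692.RealOver
import Cfsg.Agent.H949.LieDZ
import Cfsg.Agent.H610.OddRegLie
import Cfsg.Agent.H949.SubInv
import Cfsg.Agent.H694.DTypes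
import Cfsg.Agent.H687.BNGeo
import Cfsg.Agent.H727.Orth.TitsRow_m3
import Cfsg.Agent.H694.Table
import Cfsg.Agent.H610.TableRee
import Cfsg.Agent.S1155
import Cfsg.Agent.S2127
import Cfsg.Agent.ThreePrime.OrderThree
import Cfsg.Agent.H979.LieSplit
import Cfsg.Agent.FastGrp
import Cfsg.Agent.Prune
set_option linter.all false

section
prune_inst 0x7fbebdf88fa83ffedfff7e3ffed9dff831804ffff6dff943ffe861bf1f9f030609e56ba50de050ff0ed6e29c10b87843fbfffeffe86bdc7ffffd5ff41ffbee4ff5f7b508719488340fbc0fff03f0778e7f3fffffffffffffffffffffffffffbeffffffffffff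

-- part: H619/R4/RankReal
section
prune_inst 0x142047007c0010000000001022000024380000000020000038a00c02010b1300894081000a000c02104020000000000000100060420000000a000000000000000008100400440000020000003006000000000000000000000000000000041000000000000
set_option linter.all false
open scoped Cfsg.Agent.FastGrp

-- part: H619/R4/RankFrame
section
/-!
# Frame's theorem for rank 3 with the integrality condition (S4554, helper619; the proof is that of helper690)
-/

set_option autoImplicit false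
set_option linter.unusedSectionVars false

namespace Cfsg.Agent.H690.Spor.RankThree.R3

open Cfsg Cfsg.Agent.Characters.Core Cfsg.Agent.H665.NoPQ Cfsg.Agent.H690.Spor.RankThree
open scoped ComplexConjugate

variable {G X : Type*} [Group G] [MulAction G X] {R : X → X → Prop} {k l : ℕ}
variable [Fintype X] [DecidableEq X] [DecidableRel R]

/-- **Frame's theorem, rank 3**, with the parameter `β = λ - μ`. -/
theorem frame' [Finite G] (h : R3 G X R k l) : ∃ (χ₁ χ₂ : IrrCharacter G) (f g D : ℕ),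
    (χ₁ : G → ℂ) 1 = f ∧ (χ₂ : G → ℂ) 1 = g ∧
    (∀ x : G, (Nat.card (MulAction.fixedBy X x) : ℂ) = 1 + (χ₁ : G → ℂ) x + (χ₂ : G → ℂ) x) ∧
    f + g = k + l ∧ f * g * D = (1 + k + l) * k * l ∧ (f ≠ g → ∃ β c : ℤ, (D : ℤ) = c ^ 2 ∧ β * (k + l) + 2 * k = (f - g) * c) := by
  have := Fintype.ofFinite G
  obtain ⟨a, b, hab⟩ := h.exists_params
  have hp := h.params_eq hab
  have hn := h.cardn
  -- the discriminant
  set β : ℤ := (a : ℤ) - b with hβ
  set γ : ℤ := (k : ℤ) - b with hγ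
  set N : ℤ := (k : ℤ) + l with hN
  have hpZ : (k : ℤ) * k = k + k * a + l * b := by exact_mod_cast hp
  have hI : (β ^ 2 + 4 * γ) * N ^ 2 = (β * N + 2 * k) ^ 2 + 4 * ((1 + k + l) * k * l) := by
    rw [hβ, hγ, hN]
    linear_combination (4 * ((k : ℤ) + l)) * hpZ
  have hk0 : (0 : ℤ) < k := by exact_mod_cast h.k0
  have hl0 : (0 : ℤ) < l := by exact_mod_cast h.l0
  have hN0 : 0 < N := by omega
  have hpos : (0 : ℤ) < (1 + k + l) * k * l := by (clear * - hk0 hl0; positivity)
  have hD0 : 0 < β ^ 2 + 4 * γ := by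
    have h1 : 0 < (β ^ 2 + 4 * γ) * N ^ 2 := by rw [hI]; linarith only [hpos, sq_nonneg (β * N + 2 * k)]
    by_contra hcon
    push Not at hcon
    nlinarith only [hI, hpos, hcon, sq_nonneg N]
  obtain ⟨D, hD⟩ : ∃ D : ℕ, (D : ℤ) = β ^ 2 + 4 * γ := ⟨(β ^ 2 + 4 * γ).toNat, Int.toNat_of_nonneg hD0.le⟩
  obtain ⟨d, hd⟩ : ∃ d : ℂ, d * d = (D : ℂ) := by
    obtain ⟨d, hd⟩ := IsAlgClosed.exists_pow_nat_eq (D : ℂ) (n := 2) (by norm_num)
    exact ⟨d, by rw [← hd]; ring⟩
  have hd0 : d ≠ 0 := by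
    rintro rfl
    have h1 : (D : ℂ) = 0 := by rw [← hd]; ring
    have h2 : D = 0 := by exact_mod_cast h1
    rw [h2] at hD
    omega
  set r : ℂ := (β + d) / 2 with hr
  set s : ℂ := (β - d) / 2 with hs
  have hrs : r - s = d := by rw [hr, hs]; ring
  have hrs' : r ≠ s := sub_ne_zero.1 (by rw [hrs]; exact hd0)
  have hDC : (D : ℂ) = (β : ℂ) ^ 2 + 4 * γ := by exact_mod_cast congrArg (Int.cast : ℤ → ℂ) hD
  have h1 : r + s = a - b := by
    rw [hr, hs, hβ]
    push_cast
    ring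
  have h2 : r * s = b - k := by
    have h3 : r * s = ((β : ℂ) ^ 2 - d * d) / 4 := by rw [hr, hs]; ring
    rw [h3, hd, hDC, hγ]
    push_cast
    ring
  -- the characters
  have hchar : ∀ u v : ℂ, u ≠ v → u + v = a - b → u * v = b - k →
      IsCharacter G (fun g : G => ∑ x : X, ker R k (Nat.card X) u v x (g • x)) := by
    intro u v huv h3 h4
    exact Cfsg.Agent.H651.isCharacter_sum_perm (MulAction.toPermHom G X) (ker R k (Nat.card X) u v)
      (h.ker_mul hab huv h3 h4) (fun g x y => h.ker_smul _ u v g x y)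
  have hc1 := hchar r s hrs' h1 h2
  have hc2 := hchar s r hrs'.symm (by rw [add_comm]; exact h1) (by rw [mul_comm]; exact h2)
  set θ₁ : G → ℂ := fun g : G => ∑ x : X, ker R k (Nat.card X) r s x (g • x) with hθ₁
  set θ₂ : G → ℂ := fun g : G => ∑ x : X, ker R k (Nat.card X) s r x (g • x) with hθ₂
  have hnC : (Nat.card X : ℂ) ≠ 0 := by
    have : Nat.card X ≠ 0 := by omega
    exact_mod_cast this
  have hval : ∀ u v : ℂ, ∀ g : G, ∑ x : X, ker R k (Nat.card X) u v x (g • x) =
      (u - v)⁻¹ * (∑ x : X, adj R x (g • x) - v * (Nat.card (MulAction.fixedBy X g) : ℂ) - (k - v)) := by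
    intro u v g
    unfold ker
    rw [← Finset.mul_sum, Finset.sum_sub_distrib, Finset.sum_sub_distrib, ← Finset.mul_sum, sum_dia_smul,
      Finset.sum_const, Finset.card_univ, ← Nat.card_eq_fintype_card, nsmul_eq_mul]
    congr 2
    field_simp
  have hsum : (fun g : G => (Nat.card (MulAction.fixedBy X g) : ℂ) - 1) = θ₁ + θ₂ := by
    funext g
    show _ = θ₁ g + θ₂ g
    rw [hθ₁, hθ₂]
    simp only [hval]
    have h3 : (s - r)⁻¹ = -(r - s)⁻¹ := by rw [← neg_sub, inv_neg]
    rw [h3]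
    have h4 : (r - s)⁻¹ * (r - s) = 1 := inv_mul_cancel₀ (by rw [hrs]; exact hd0)
    linear_combination (-(Nat.card (MulAction.fixedBy X g) : ℂ) + 1) * h4
  have hnorm := h.norm_two (G := G)
  rw [hsum, classInner_add_left, classInner_add_right, classInner_add_right] at hnorm
  -- degrees
  have hone : ∑ x : X, adj R x ((1 : G) • x) = 0 := by
    refine Finset.sum_eq_zero fun x _ => ?_
    unfold adj
    rw [one_smul, if_neg (h.irr x)]
  have hfix1 : Nat.card (MulAction.fixedBy X (1 : G)) = Nat.card X := by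
    rw [MulAction.fixedBy_one_eq_univ]
    exact Nat.card_univ
  have hn' : (Nat.card X : ℂ) = 1 + k + l := by exact_mod_cast hn
  have hdeg1 : θ₁ 1 * d = -(s * (k + l) + k) := by
    rw [hθ₁]
    simp only [hval]
    rw [hone, hfix1, hn', hrs]
    have h4 : d⁻¹ * d = 1 := inv_mul_cancel₀ hd0
    linear_combination (0 - s * (1 + k + l) - (k - s)) * h4
  have hdeg2 : θ₂ 1 * d = r * (k + l) + k := by
    rw [hθ₂]
    simp only [hval]
    have h3 : (s - r)⁻¹ = -d⁻¹ := by rw [← neg_sub, inv_neg, hrs]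
    rw [hone, hfix1, hn', h3]
    have h4 : d⁻¹ * d = 1 := inv_mul_cancel₀ hd0
    linear_combination (0 - (0 - r * (1 + k + l) - (k - r))) * h4
  obtain ⟨f, hf⟩ := isCharacter_apply_one hc1
  obtain ⟨g, hg⟩ := isCharacter_apply_one hc2
  have hpC : (k : ℂ) * k = k + k * a + l * b := by exact_mod_cast hp
  have hprod : (f : ℂ) * g * D = (1 + k + l) * k * l := by
    rw [← hd, ← hf, ← hg]
    have h5 : θ₁ 1 * θ₂ 1 * (d * d) = (θ₁ 1 * d) * (θ₂ 1 * d) := by ring
    rw [h5, hdeg1, hdeg2]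
    linear_combination (-(k + l : ℂ) ^ 2) * h2 - (k : ℂ) * (k + l) * h1 + (k + l : ℂ) * hpC
  have hprodN : f * g * D = (1 + k + l) * k * l := by exact_mod_cast hprod
  have hfg : f + g = k + l := by
    have h3 : ((f + g : ℕ) : ℂ) * d = ((k + l : ℕ) : ℂ) * d := by
      push_cast
      rw [← hf, ← hg]
      linear_combination hdeg1 + hdeg2 + (k + l : ℂ) * hrs
    have h4 := mul_right_cancel₀ hd0 h3
    exact_mod_cast h4
  have hprod0 : 0 < (1 + k + l) * k * l := by
    have := h.k0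
    have := h.l0
    positivity
  have hf0 : f ≠ 0 := by
    rintro rfl
    rw [zero_mul, zero_mul] at hprodN
    omega
  have hg0 : g ≠ 0 := by
    rintro rfl
    rw [mul_zero, zero_mul] at hprodN
    omega
  -- norms
  obtain ⟨m11, hm11⟩ := classInner_isNat hc1 hc1
  obtain ⟨m12, hm12⟩ := classInner_isNat hc1 hc2
  obtain ⟨m21, hm21⟩ := classInner_isNat hc2 hc1
  obtain ⟨m22, hm22⟩ := classInner_isNat hc2 hc2
  rw [hm11, hm12, hm21, hm22] at hnorm
  have hnormN : m11 + m12 + (m21 + m22) = 2 := by exact_mod_cast hnorm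
  have h11 : m11 ≠ 0 := by
    rintro rfl
    have h3 := classInner_self_eq_zero (φ := θ₁) (by rw [hm11]; simp)
    rw [h3] at hf
    apply hf0
    have : (f : ℂ) = 0 := by rw [← hf]; rfl
    exact_mod_cast this
  have h22 : m22 ≠ 0 := by
    rintro rfl
    have h3 := classInner_self_eq_zero (φ := θ₂) (by rw [hm22]; simp)
    rw [h3] at hg
    apply hg0
    have : (g : ℂ) = 0 := by rw [← hg]; rfl
    exact_mod_cast this
  have hm1 : m11 = 1 := by omega
  have hm2 : m22 = 1 := by omega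
  have hi1 : IsIrrCharacter G θ₁ := isIrr_of_classInner_self hc1 (by rw [hm11, hm1]; simp)
  have hi2 : IsIrrCharacter G θ₂ := isIrr_of_classInner_self hc2 (by rw [hm22, hm2]; simp)
  refine ⟨⟨θ₁, hi1⟩, ⟨θ₂, hi2⟩, f, g, D, hf, hg, fun x => ?_, hfg, hprodN, fun hne => ?_⟩
  · have h3 := congrFun hsum x
    have h4 : (Nat.card (MulAction.fixedBy X x) : ℂ) - 1 = θ₁ x + θ₂ x := h3
    show _ = 1 + θ₁ x + θ₂ x
    linear_combination h4
  · have h3 : ((f : ℂ) - g) * d = -(β * (k + l) + 2 * k) := by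
      rw [← hf, ← hg]
      have h4 : (β : ℂ) = r + s := by rw [hr, hs]; ring
      rw [h4]
      linear_combination hdeg1 - hdeg2
    have h5 : ((f : ℂ) - g) ^ 2 * D = (β * (k + l) + 2 * k) ^ 2 := by
      rw [← hd]
      have : ((f : ℂ) - g) ^ 2 * (d * d) = (((f : ℂ) - g) * d) ^ 2 := by ring
      rw [this, h3]
      ring
    have h6 : ((f : ℤ) - g) ^ 2 * D = (β * (k + l) + 2 * k) ^ 2 := by exact_mod_cast h5
    have h7 : ((f : ℤ) - g) ≠ 0 := by
      intro h8
      apply hne
      omega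
    have h8 : ((f : ℤ) - g) ∣ (β * (k + l) + 2 * k) := by
      have h9 : ((f : ℤ) - g) ^ 2 ∣ (β * (k + l) + 2 * k) ^ 2 := ⟨_, h6.symm⟩
      exact (Int.pow_dvd_pow_iff (by norm_num)).1 h9
    obtain ⟨c, hc⟩ := h8
    have hc' := hc
    rw [hc, mul_pow] at h6
    have h10 : (D : ℤ) = c ^ 2 := mul_left_cancel₀ (pow_ne_zero 2 h7) h6
    exact ⟨β, c, h10, hc'⟩
end Cfsg.Agent.H690.Spor.RankThree.R3
end

-- part: H619/R4/RankReal
section
/-!
# Real characters from actions of rank 3 (S4554, helper619)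

* `real_pair` : the two constituents of different degrees, with the degrees from Frame's theorem and a finite check;
* `R3.extend` : `N ⊴ G`, `N` has rank 3 on the `G`-set `X` with different subdegrees: `G` too.
-/

set_option autoImplicit false
set_option linter.unusedSectionVars false

open Cfsg

namespace Cfsg.Agent.H619.R4

open Cfsg.Agent.Characters Cfsg.Agent.Characters.Core Cfsg.Agent.Blocks Cfsg.Agent.H686.CharKit
open Cfsg.Agent.H690.Spor
open scoped ComplexConjugate

universe u v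

/-- binary splitting -/
def rng (f : ℕ → Bool) : ℕ → ℕ → Bool
  | 0, s => f s
  | d + 1, s => rng f d s && rng f d (s + 2 ^ d)

theorem rng_spec {f : ℕ → Bool} : ∀ {d s : ℕ}, rng f d s = true → ∀ i, s ≤ i → i < s + 2 ^ d → f i = true
  | 0, s, h, i, h1, h2 => by
    have : i = s := by
      rw [pow_zero] at h2
      omega
    rw [this]
    exact h
  | d + 1, s, h, i, h1, h2 => by
    rw [rng, Bool.and_eq_true] at h
    rcases lt_or_ge i (s + 2 ^ d) with h3 | h3
    · exact rng_spec h.1 i h1 h3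
    · refine rng_spec h.2 i h3 ?_
      rw [pow_succ] at h2
      omega

/-- one candidate in Frame's equations -/
def cand (k l a f : ℕ) : Bool :=
  Nat.beq f 0 || Nat.beq f a || Nat.ble ((k + l) / 2 + 1) f ||
    !(Nat.beq (((1 + k + l) * k * l) % (f * (k + l - f))) 0) ||
      !(Nat.beq (Nat.sqrt (((1 + k + l) * k * l) / (f * (k + l - f))) *
        Nat.sqrt (((1 + k + l) * k * l) / (f * (k + l - f)))) (((1 + k + l) * k * l) / (f * (k + l - f)))) ||
      !(Nat.beq (((k + l - f - f) * Nat.sqrt (((1 + k + l) * k * l) / (f * (k + l - f))) + 2 * k) % (k + l)) 0 ||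
        Nat.beq (((k + l - f - f) * Nat.sqrt (((1 + k + l) * k * l) / (f * (k + l - f))) + 2 * l) % (k + l)) 0)

theorem cand_spec {k l a f g D : ℕ} (h : cand k l a f = true) (hfg : f + g = k + l) (hle : f ≤ g) (hf : f ≠ 0)
    (hprod : f * g * D = (1 + k + l) * k * l)
    (hD : ∃ β c : ℤ, (D : ℤ) = c ^ 2 ∧ (β * (k + l) + 2 * k = ((f : ℤ) - g) * c ∨ β * (k + l) + 2 * k = ((g : ℤ) - f) * c)) :
    f = a := by
  have hg : k + l - f = g := by omega
  have hpos : 0 < f * g := Nat.mul_pos (by omega) (by omega)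
  have h2 : (1 + k + l) * k * l % (f * g) = 0 := by
    rw [← hprod]
    exact Nat.mul_mod_right _ _
  have h3 : (1 + k + l) * k * l / (f * g) = D := by
    rw [← hprod]
    exact Nat.mul_div_cancel_left _ hpos
  obtain ⟨β, c, hc, hβ⟩ := hD
  set m := c.natAbs with hm
  have hDm : D = m * m := by
    have : (D : ℤ) = ((m * m : ℕ) : ℤ) := by
      rw [hm, Int.natAbs_mul_self, hc]
      ring
    exact_mod_cast this
  have h4 : Nat.sqrt D = m := by rw [hDm, Nat.sqrt_eq]
  have h5 : (c : ℤ) = m ∨ (c : ℤ) = -m := by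
    rw [hm]
    exact Int.natAbs_eq c
  have hkl : ((k : ℤ) + l) = ((k + l : ℕ) : ℤ) := by push_cast; ring
  have hgf : (((g - f : ℕ)) : ℤ) = (g : ℤ) - f := by rw [Nat.cast_sub hle]
  have h6 : ((k + l : ℕ) : ℤ) ∣ (((g - f) * m + 2 * k : ℕ) : ℤ) ∨ ((k + l : ℕ) : ℤ) ∣ (((g - f) * m + 2 * l : ℕ) : ℤ) := by
    push_cast [hgf]
    rcases hβ with hβ | hβ <;> rcases h5 with h5 | h5 <;> rw [h5] at hβ
    · left
      exact ⟨-β, by linear_combination hβ⟩
    · right
      exact ⟨β + 2, by linear_combination -hβ⟩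
    · right
      exact ⟨β + 2, by linear_combination -hβ⟩
    · left
      exact ⟨-β, by linear_combination hβ⟩
  have h7 : ((g - f) * m + 2 * k) % (k + l) = 0 ∨ ((g - f) * m + 2 * l) % (k + l) = 0 := by
    rcases h6 with h6 | h6
    · left
      exact Nat.mod_eq_zero_of_dvd (by exact_mod_cast h6)
    · right
      exact Nat.mod_eq_zero_of_dvd (by exact_mod_cast h6)
  unfold cand at h
  rw [hg, h2, h3, h4, ← hDm] at h
  simp only [Bool.or_eq_true, Bool.not_eq_true', Bool.or_eq_false_iff] at h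
  rcases h with ((((h | h) | h) | h) | h) | h
  · exact absurd (Nat.eq_of_beq_eq_true h) hf
  · exact Nat.eq_of_beq_eq_true h
  · have := Nat.le_of_ble_eq_true h
    omega
  · exact absurd h (by decide)
  · rw [Nat.beq_refl] at h
    exact absurd h (by decide)
  · exfalso
    rcases h7 with h7 | h7
    · rw [h7] at h
      exact absurd h.1 (by decide)
    · rw [h7] at h
      exact absurd h.2 (by decide)

section

variable {G : Type u} [Group G] [Finite G]

theorem real_of_sum {χ₁ χ₂ : IrrCharacter G} (hne : (χ₁ : G → ℂ) 1 ≠ (χ₂ : G → ℂ) 1)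
    (h : ∀ g, conj ((χ₁ : G → ℂ) g + (χ₂ : G → ℂ) g) = (χ₁ : G → ℂ) g + (χ₂ : G → ℂ) g) (g : G) :
    conj ((χ₁ : G → ℂ) g) = (χ₁ : G → ℂ) g := by
  classical
  have := Fintype.ofFinite G
  have c1 : IsIrrCharacter G (fun x => conj ((χ₁ : G → ℂ) x)) := (H692.RealAct.irrConj χ₁).2
  have c2 : IsIrrCharacter G (fun x => conj ((χ₂ : G → ℂ) x)) := (H692.RealAct.irrConj χ₂).2
  by_contra hcon
  have hn1 : (fun x => conj ((χ₁ : G → ℂ) x)) ≠ (χ₁ : G → ℂ) := fun h1 => hcon (congrFun h1 g)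
  have hn2 : (fun x => conj ((χ₁ : G → ℂ) x)) ≠ (χ₂ : G → ℂ) := by
    intro h1
    apply hne
    have h2 := congrFun h1 1
    rw [← h2]
    show _ = conj ((χ₁ : G → ℂ) 1)
    rw [Cfsg.Agent.Blocks.Basic.irr_one_eq_charDegree χ₁.2, Complex.conj_natCast]
  have h3 : classInner (fun x => conj ((χ₁ : G → ℂ) x)) ((χ₁ : G → ℂ) + (χ₂ : G → ℂ)) = 0 := by
    rw [classInner_add_right, classInner_irr_ne c1 χ₁.2 hn1, classInner_irr_ne c1 χ₂.2 hn2, add_zero]
  have h4 : ((χ₁ : G → ℂ) + (χ₂ : G → ℂ)) = (fun x => conj ((χ₁ : G → ℂ) x)) + fun x => conj ((χ₂ : G → ℂ) x) := by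
    funext x
    have := h x
    rw [map_add] at this
    exact this.symm
  have hn3 : (fun x => conj ((χ₁ : G → ℂ) x)) ≠ fun x => conj ((χ₂ : G → ℂ) x) := by
    intro h1
    apply hne
    have h2 := congrFun h1 1
    exact (starRingEnd ℂ).injective h2
  rw [h4, classInner_add_right, classInner_irr_self c1, classInner_irr_ne c1 c2 hn3, add_zero] at h3
  exact one_ne_zero h3

/-- **Real characters from rank 3.** -/
theorem real_pair {X : Type v} [MulAction G X] {R : X → X → Prop} {k l : ℕ}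
    (h : RankThree.R3 G X R k l) (hodd : Odd (k + l) ∨ ¬ (k + l) / 2 ∣ Nat.card G) {a b d : ℕ} (hab : a + b = k + l)
    (hlt : a < b) (hd : k + l < 2 ^ d) (hc : rng (cand k l a) d 0 = true) : RC G a ∧ RC G b := by
  classical
  have hn := h.cardn
  have hfin : Finite X := by
    by_contra hcon
    rw [not_finite_iff_infinite] at hcon
    rw [Nat.card_eq_zero_of_infinite] at hn
    omega
  have := Fintype.ofFinite X
  obtain ⟨χ₁, χ₂, f, g, D, hf, hg, hπ, hfg, hprod, hsq⟩ := h.frame'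
  have hprod0 : (1 + k + l) * k * l ≠ 0 := by
    have := h.k0
    have := h.l0
    positivity
  have hne : f ≠ g := by
    rintro rfl
    rcases hodd with h1 | h1
    · rw [← hfg] at h1
      exact (Nat.not_odd_iff_even.2 ⟨f, rfl⟩) h1
    · apply h1
      have h2 : (k + l) / 2 = f := by omega
      have h3 : charDegree (χ₁ : G → ℂ) = f := Cfsg.Agent.Blocks.Basic.charDegree_of_eq hf
      rw [h2, ← h3]
      exact Cfsg.Agent.Blocks.Knorr.charDegree_dvd χ₁.2
  have hf0 : f ≠ 0 := by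
    rintro rfl
    rw [zero_mul, zero_mul] at hprod
    exact hprod0 hprod.symm
  have hg0 : g ≠ 0 := by
    rintro rfl
    rw [mul_zero, zero_mul] at hprod
    exact hprod0 hprod.symm
  have hsum : ∀ x, conj ((χ₁ : G → ℂ) x + (χ₂ : G → ℂ) x) = (χ₁ : G → ℂ) x + (χ₂ : G → ℂ) x := by
    intro x
    have h1 : (χ₁ : G → ℂ) x + (χ₂ : G → ℂ) x = (Nat.card (MulAction.fixedBy X x) : ℂ) - 1 := by
      rw [hπ x]
      ring
    rw [h1, map_sub, map_one, Complex.conj_natCast]
  have hne1 : (χ₁ : G → ℂ) 1 ≠ (χ₂ : G → ℂ) 1 := by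
    rw [hf, hg]
    exact_mod_cast hne
  have r1 := real_of_sum hne1 hsum
  have r2 := real_of_sum hne1.symm (fun x => by rw [add_comm]; exact hsum x)
  rcases le_total f g with hle | hle
  · have e : f = a := cand_spec (rng_spec hc f (Nat.zero_le _) (by omega)) hfg hle hf0 hprod (by
      obtain ⟨β, c, h1, h2⟩ := hsq hne
      exact ⟨β, c, h1, Or.inl h2⟩)
    have e' : g = b := by omega
    subst e e'
    exact ⟨RC.of_conj r1 hf, RC.of_conj r2 hg⟩
  · have e : g = a := cand_spec (rng_spec hc g (Nat.zero_le _) (by omega)) (by omega) hle hg0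
      (by rw [mul_comm g f]; exact hprod) (by
      obtain ⟨β, c, h1, h2⟩ := hsq hne
      exact ⟨β, c, h1, Or.inr h2⟩)
    have e' : f = b := by omega
    subst e e'
    exact ⟨RC.of_conj r2 hg, RC.of_conj r1 hf⟩

end

end Cfsg.Agent.H619.R4
end

private theorem dce_c2f80d39c9fa : _root_.True := by
  try have : _root_.True := by simp only [_root_.Cfsg.Agent.H619.R4.rng.eq_2]
  try have : _root_.True := by simp only [_root_.Cfsg.Agent.H619.R4.rng.eq_def]
  try have : _root_.True := by simp only [_root_.Cfsg.Agent.H619.R4.rng.eq_1]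
  exact _root_.True.intro
end

-- part: H619/R4/RankTab
section
set_option linter.all false
open scoped Cfsg.Agent.FastGrp

/-!
# The degrees of the rank 3 actions of the sporadic groups (S4554, helper619)
-/

set_option autoImplicit false

open Cfsg

namespace Cfsg.Agent.H619.R4

open Cfsg.Agent.H690.Spor

universe u v

variable {G : Type u} [Group G] [Finite G] {X : Type v} [MulAction G X] {R : X → X → Prop}

theorem sp29_rng_of {f : ℕ → Bool} : ∀ {d s : ℕ}, (∀ i, s ≤ i → i < s + 2 ^ d → f i = true) → rng f d s = true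
  | 0, s, h => h s le_rfl (by rw [pow_zero]; exact Nat.lt_succ_self s)
  | d + 1, s, h => by
    rw [rng, Bool.and_eq_true]
    have h2 : 2 ^ (d + 1) = 2 ^ d + 2 ^ d := by rw [pow_succ]; omega
    exact ⟨sp29_rng_of fun i h3 h4 => h i h3 (by omega), sp29_rng_of fun i h3 h4 => h i (by omega) (by omega)⟩

theorem sp29_cand_big {k l a i : ℕ} (h : (k + l) / 2 < i) : cand k l a i = true := by
  have h1 : Nat.ble ((k + l) / 2 + 1) i = true := Nat.ble_eq_true_of_le h
  unfold cand
  rw [h1]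
  simp only [Bool.or_true, Bool.true_or]

/-- the range check from blocks of length `2 ^ e`; nothing to check beyond `(k + l) / 2` -/
theorem sp29_rng_blocks {k l a d : ℕ} (e n : ℕ) (hn : (k + l) / 2 < n * 2 ^ e)
    (h : ∀ j < n, rng (cand k l a) e (j * 2 ^ e) = true) : rng (cand k l a) d 0 = true := by
  refine sp29_rng_of fun i _ _ => ?_
  rcases lt_or_ge ((k + l) / 2) i with h1 | h1
  · exact sp29_cand_big h1
  · have hp : 0 < 2 ^ e := Nat.two_pow_pos e
    have h2 : i < n * 2 ^ e := lt_of_le_of_lt h1 hn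
    have h3 : i / 2 ^ e < n := (Nat.div_lt_iff_lt_mul hp).2 h2
    have h4 : i / 2 ^ e * 2 ^ e ≤ i := Nat.div_mul_le_self i _
    have h5 : i < i / 2 ^ e * 2 ^ e + 2 ^ e := Nat.lt_div_mul_add hp
    exact rng_spec (h _ h3) i h4 h5

/-- the test `p` on the divisors of `M` among `s, …, s + n - 1` -/
noncomputable def rtIn (M : ℕ) (p : ℕ → Bool) (s n : ℕ) : Bool :=
  Nat.rec true (fun i r => Bool.rec r (Bool.rec false r (p (Nat.add s i))) (Nat.beq (Nat.mod M (Nat.add s i)) 0)) n

/-- the test `p` on the divisors of `M` below `m * n` -/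
noncomputable def rtOut (M : ℕ) (p : ℕ → Bool) (n m : ℕ) : Bool :=
  Nat.rec true (fun j r => Bool.rec false r (rtIn M p (Nat.mul j n) n)) m

theorem rtIn_spec {M : ℕ} {p : ℕ → Bool} {s : ℕ} :
    ∀ {n : ℕ}, rtIn M p s n = true → ∀ i < n, M % (s + i) = 0 → p (s + i) = true
  | 0, _, _, hi, _ => absurd hi (Nat.not_lt_zero _)
  | n + 1, h, i, hi, hm => by
    have h1 : (Bool.rec (rtIn M p s n) (Bool.rec false (rtIn M p s n) (p (s + n))) (Nat.beq (M % (s + n)) 0) : Bool)
        = true := h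
    cases h2 : Nat.beq (M % (s + n)) 0
    · rw [h2] at h1
      rcases Nat.lt_succ_iff_lt_or_eq.1 hi with h3 | h3
      · exact rtIn_spec h1 i h3 hm
      · rw [← h3, hm] at h2
        exact absurd h2 (by decide)
    · rw [h2] at h1
      cases h4 : p (s + n)
      · rw [h4] at h1
        exact absurd h1 Bool.false_ne_true
      · rw [h4] at h1
        rcases Nat.lt_succ_iff_lt_or_eq.1 hi with h3 | h3
        · exact rtIn_spec h1 i h3 hm
        · rw [h3]
          exact h4

theorem rtOut_spec {M : ℕ} {p : ℕ → Bool} {n : ℕ} :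
    ∀ {m : ℕ}, rtOut M p n m = true → ∀ j < m, rtIn M p (j * n) n = true
  | 0, _, _, hj => absurd hj (Nat.not_lt_zero _)
  | m + 1, h, j, hj => by
    have h1 : (Bool.rec false (rtOut M p n m) (rtIn M p (m * n) n) : Bool) = true := h
    cases h2 : rtIn M p (m * n) n
    · rw [h2] at h1
      exact absurd h1 Bool.false_ne_true
    · rw [h2] at h1
      rcases Nat.lt_succ_iff_lt_or_eq.1 hj with h3 | h3
      · exact rtOut_spec h1 j h3
      · rw [h3]
        exact h2

theorem rt_cand {k l a : ℕ} (M n m : ℕ) (hM : (1 + k + l) * k * l = M) (hn : (k + l) / 2 < m * n)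
    (h : rtOut M (cand k l a) n m = true) (i : ℕ) : cand k l a i = true := by
  rcases lt_or_ge ((k + l) / 2) i with h1 | h1
  · exact sp29_cand_big h1
  · have hp : 0 < n := Nat.pos_of_ne_zero fun h0 => by
      rw [h0, Nat.mul_zero] at hn
      exact Nat.not_lt_zero _ hn
    have h3 : i / n < m := (Nat.div_lt_iff_lt_mul hp).2 (lt_of_le_of_lt h1 hn)
    have h4 : i / n * n + i % n = i := Nat.div_add_mod' i n
    by_cases h5 : M % i = 0
    · have := rtIn_spec (rtOut_spec h _ h3) (i % n) (Nat.mod_lt _ hp) (by rw [h4]; exact h5)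
      rwa [h4] at this
    · have h6 : Nat.beq (((1 + k + l) * k * l) % (i * (k + l - i))) 0 = false := by
        cases h7 : Nat.beq (((1 + k + l) * k * l) % (i * (k + l - i))) 0
        · rfl
        · refine absurd (Nat.mod_eq_zero_of_dvd ?_) h5
          rw [← hM]
          exact Dvd.dvd.trans (Dvd.intro _ rfl) (Nat.dvd_of_mod_eq_zero (Nat.eq_of_beq_eq_true h7))
      delta cand
      rw [h6]
      simp only [Bool.not_false, Bool.or_true, Bool.true_or]

theorem rt_rng {k l a d s : ℕ} (M n m : ℕ) (hM : (1 + k + l) * k * l = M) (hn : (k + l) / 2 < m * n)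
    (h : rtOut M (cand k l a) n m = true) : rng (cand k l a) d s = true :=
  sp29_rng_of fun i _ _ => rt_cand M n m hM hn h i

theorem rc_j2 (h : RankThree.R3 G X R 36 63) : RC G 36 ∧ RC G 63 :=
  real_pair (d := 7) h (Or.inl (by decide)) (by norm_num) (by norm_num) (by norm_num) (by decide +kernel)

theorem rc_hs (h : RankThree.R3 G X R 22 77) : RC G 22 ∧ RC G 77 :=
  real_pair (d := 7) h (Or.inl (by decide)) (by norm_num) (by norm_num) (by norm_num) (by decide +kernel)

theorem rc_mcl (h : RankThree.R3 G X R 112 162) (hd : ¬ 137 ∣ Nat.card G) : RC G 22 ∧ RC G 252 :=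
  real_pair (d := 9) h (Or.inr hd) (by norm_num) (by norm_num) (by norm_num) (by decide +kernel)

theorem rc_suz (h : RankThree.R3 G X R 416 1365) : RC G 780 ∧ RC G 1001 :=
  real_pair (d := 11) h (Or.inl (by decide)) (by norm_num) (by norm_num) (by norm_num)
    (rt_rng 1011890880 256 4 (by decide +kernel) (by decide +kernel) (by decide +kernel))

theorem rc_ru (h : RankThree.R3 G X R 1755 2304) : RC G 783 ∧ RC G 3276 :=
  real_pair (d := 12) h (Or.inl (by decide)) (by norm_num) (by norm_num) (by norm_num)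
    (rt_rng 16416691200 256 8 (by decide +kernel) (by decide +kernel) (by decide +kernel))

theorem rc_co2 (h : RankThree.R3 G X R 891 1408) : RC G 275 ∧ RC G 2024 :=
  real_pair (d := 12) h (Or.inl (by decide)) (by norm_num) (by norm_num) (by norm_num)
    (rt_rng 2885414400 256 5 (by decide +kernel) (by decide +kernel) (by decide +kernel))

theorem rc_fi22 (h : RankThree.R3 G X R 693 2816) : RC G 429 ∧ RC G 3080 :=
  real_pair (d := 12) h (Or.inl (by decide)) (by norm_num) (by norm_num) (by norm_num)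
    (rt_rng 6849722880 256 7 (by decide +kernel) (by decide +kernel) (by decide +kernel))

theorem rc_fi23 (h : RankThree.R3 G X R 3510 28160) (hd : ¬ 15835 ∣ Nat.card G) : RC G 782 ∧ RC G 30888 :=
  real_pair (d := 15) h (Or.inr hd) (by norm_num) (by norm_num) (by norm_num)
    (rt_rng 3130412313600 256 62 (by decide +kernel) (by decide +kernel) (by decide +kernel))

theorem rt_fi24 : ∀ i, cand 31671 275264 57477 i = true :=
  rt_cand 2675833101494784 512 300 (by decide +kernel) (by decide +kernel) (by decide +kernel)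

theorem sp29_fi24_c0 : rng (cand 31671 275264 57477) 15 (0 * 2 ^ 15) = true :=
  sp29_rng_of fun i _ _ => rt_fi24 i

theorem sp29_fi24_c1 : rng (cand 31671 275264 57477) 15 (1 * 2 ^ 15) = true :=
  sp29_rng_of fun i _ _ => rt_fi24 i

theorem sp29_fi24_c2 : rng (cand 31671 275264 57477) 15 (2 * 2 ^ 15) = true :=
  sp29_rng_of fun i _ _ => rt_fi24 i

theorem sp29_fi24_c3 : rng (cand 31671 275264 57477) 15 (3 * 2 ^ 15) = true :=
  sp29_rng_of fun i _ _ => rt_fi24 i

theorem sp29_fi24_c4 : rng (cand 31671 275264 57477) 15 (4 * 2 ^ 15) = true :=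
  sp29_rng_of fun i _ _ => rt_fi24 i

theorem rc_fi24 (h : RankThree.R3 G X R 31671 275264) : RC G 57477 ∧ RC G 249458 :=
  real_pair (d := 19) h (Or.inl (by decide)) (by norm_num) (by norm_num) (by norm_num)
    (sp29_rng_blocks 15 5 (by norm_num) fun j hj => by
      rcases j with _ | _ | _ | _ | _ | j
      · exact sp29_fi24_c0
      · exact sp29_fi24_c1
      · exact sp29_fi24_c2
      · exact sp29_fi24_c3
      · exact sp29_fi24_c4
      · omega)

theorem rc_m22 (h : RankThree.R3 G X R 16 60) (hd : ¬ 38 ∣ Nat.card G) : RC G 21 ∧ RC G 55 :=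
  real_pair (d := 7) h (Or.inr hd) (by norm_num) (by norm_num) (by norm_num) (by decide +kernel)

end Cfsg.Agent.H619.R4
end

-- part: H90/R4/HS
section
set_option linter.all false
open scoped Cfsg.Agent.FastGrp

/-!
# The row `HS` of S4554 (helper90)

`p = 7`: `|C(x)| = 7`, `x` is conjugate to all its nontrivial powers; the real character of degree 77
of the rank 3 action on 100 points.
-/

set_option autoImplicit false

namespace Cfsg.Agent.H90.R4.HS

open Cfsg Cfsg.Agent.H619.R4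

universe u

theorem rc77 : RC Spor.HS 77 := by
  obtain ⟨⟨e⟩, -⟩ := Cfsg.Agent.HN.AutHS.nonempty_Q
  exact (rc_hs Cfsg.Agent.H305.SporHS.r3).2.congr e

/-- **the row `HS`** -/
theorem row_HS {S : Type u} [Group S] (h : Spor.IsoHS S) : Row S := by
  have hidx := Cfsg.Agent.KFacts.HS.index_inn h
  have h' := h
  obtain ⟨e⟩ := h
  have hc : Nat.card S = 44352000 := by
    rw [Nat.card_congr e.toEquiv, Cfsg.Agent.H665.SporCo.card_HS]
  have hfin : Finite S := Nat.finite_of_card_ne_zero (by rw [hc]; norm_num)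
  obtain ⟨⟨f⟩, hs⟩ := Cfsg.Agent.HN.AutHS.nonempty_Q
  have hsim : IsSimpleGroup S := (e.trans f.symm).isSimpleGroup
  have hp : Fact (Nat.Prime 7) := ⟨by norm_num⟩
  have hna : ¬ IsMulCommutative S := by
    intro hm
    exact Cfsg.Agent.H462.RealJ.nonab_of_card (G := S) (by rw [hc]; norm_num) fun x y => hm.1.1 x y
  have hf : (Nat.card S).factorization 7 = 1 := by
    rw [hc]
    exact Cfsg.Agent.H419.Row.factorization_eq (by norm_num) (m := 6336000) (by norm_num) (by norm_num)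
  obtain ⟨x, hx⟩ := exists_prime_orderOf_dvd_card' (G := S) 7 (by rw [hc]; norm_num)
  have hC := Cfsg.Agent.H904.HSIso.card_seven h' hx
  refine row_two_prime hna (by rw [hidx]) (p := 7) (by norm_num) hf hx (fun j hj =>
    Cfsg.Agent.H713.Two.Sing.isConj_pow_of_full hx ?_ hj) (rc77.congr e.symm) (by decide) (by norm_num)
  rw [Cfsg.Agent.H713.Two.Sing.card_fus_eq hf hx hC (e := 6) (by rw [hc])]

end Cfsg.Agent.H90.R4.HS
end

-- part: H494/R4/LieOdd
section
prune_inst 0x4000030050000000000000000400058428200009000088000004002040680840000000820b000001000000004003100400000000000000000000004000119008000800000b008a000000000000080000000000000000000000000000000000000000000000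
set_option linter.all false
open scoped Cfsg.Agent.FastGrp

-- part: H494/R4/RegUni
section
/-!
# A second odd degree from real unipotent elements (helper494, S4554)

* `SecondOdd r S` : in all groups `G` with a normal subgroup `N ≅ S`, `C_G(N) = 1`, there is `RD G N d` with `d` odd
  and not a power of `r`;
* `of_point` : from a real `r`-element `x ≠ 1` with a class stable under a Sylow `2`-subgroup of `Aut(S)`;
* `of_classes` : from a stable set of real `r`-elements forming an odd number of classes.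
-/

set_option autoImplicit false
set_option linter.unusedSectionVars false

namespace Cfsg.Agent.H494.R4

open Cfsg Cfsg.Agent.Characters Cfsg.Agent.Blocks Cfsg.Agent.H686.CharKit
open Cfsg.Agent.H727.Orth Cfsg.Agent.H619.R4
open scoped ComplexConjugate

universe u

/-- a real irreducible character of odd degree, not a power of `r`, not trivial on `N` -/
def SecondOdd (r : ℕ) (S : Type u) [Group S] : Prop :=
  ∀ (G : Type u) [Group G] [Finite G] (N : Subgroup G) [N.Normal], Nonempty (S ≃* N) →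
    Subgroup.centralizer (N : Set G) = ⊥ → ∃ d, Odd d ∧ (∀ k, d ≠ r ^ k) ∧ RD G N d

theorem SecondOdd.congr {r : ℕ} {S S' : Type u} [Group S] [Group S'] (e : S ≃* S') (h : SecondOdd r S) :
    SecondOdd r S' := fun G _ _ N _ f hC => h G N (f.map fun f => e.trans f) hC

section

variable {S : Type u} [Group S] [Finite S] [IsSimpleGroup S]

theorem center_bot (hna : ∃ a b : S, a * b ≠ b * a) : Subgroup.center S = ⊥ := H949.LieDZ.center_eq_bot hna

theorem resid_top (hna : ∃ a b : S, a * b ≠ b * a) : pResidual 2 S = ⊤ := by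
  refine Cfsg.Agent.H903.DihSimple.pResidual_eq_top ?_
  intro H hH
  have hn : H.Normal := Subgroup.normal_of_index_eq_two hH
  rcases hn.eq_bot_or_eq_top with h | h
  · rw [h, Subgroup.index_bot] at hH
    have : Fact (Nat.Prime 2) := ⟨Nat.prime_two⟩
    have : IsCyclic S := isCyclic_of_prime_card hH
    obtain ⟨a, b, hab⟩ := hna
    obtain ⟨g, hg⟩ := IsCyclic.exists_zpow_surjective (G := S)
    obtain ⟨m, rfl⟩ := hg a
    obtain ⟨n, rfl⟩ := hg b
    exact hab (by rw [← zpow_add, ← zpow_add, add_comm])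
  · rw [h, Subgroup.index_top] at hH
    exact absurd hH (by norm_num)

/-- **A second odd degree from a character.** -/
theorem of_char (hna : ∃ a b : S, a * b ≠ b * a) {r : ℕ} (hr : r.Prime) (T : Sylow 2 (MulAut S))
    {θ : S → ℂ} (h1 : IsIrrCharacter S θ) (h2 : ∀ s, (θ s).im = 0) (h3 : Odd (charDegree θ)) (h4 : θ ≠ 1)
    (hT : (T : Subgroup (MulAut S)) ≤ stab θ) (hpow : ∀ k, charDegree θ ≠ r ^ k) : SecondOdd r S := by
  intro G _ _ N _ ⟨f⟩ hC
  have hne : charDegree θ ≠ 1 := by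
    intro h
    exact hpow 0 (by rw [h, pow_zero])
  obtain ⟨k, hk, hd⟩ := rd_odd (center_bot hna) (resid_top hna) T h1 h2 h3 hT (ne_of_degree h1 hne) N f hC
  refine ⟨_, hk.mul h3, ?_, hd⟩
  intro j hj
  have h5 : charDegree θ ∣ r ^ j := hj ▸ dvd_mul_left _ _
  obtain ⟨i, -, hi⟩ := (Nat.dvd_prime_pow hr).1 h5
  exact hpow i hi

/-- **A second odd degree from a real unipotent element.** -/
theorem of_point (hna : ∃ a b : S, a * b ≠ b * a) {r : ℕ} (hr : r.Prime) (hS : IsLieTypeChar r S)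
    (T : Sylow 2 (MulAut S)) {x : S} (hx : x ≠ 1) (hxr : ∃ k, x ^ r ^ k = 1) (hreal : IsConj x x⁻¹)
    (hst : ∀ a ∈ (T : Subgroup (MulAut S)), IsConj x (a x)) : SecondOdd r S := by
  obtain ⟨χ, h1, h2, h3, h4, h5⟩ := exists_odd_at hx hreal T hst T.2
  refine of_char hna hr T χ.2 h1 h2 h3 h5 ?_
  intro k hk
  apply h4
  have h6 := H949.LieDZ.defect_zero_of_pow hna hr hS χ.2 h3 hk
  refine H692.RealOver.defect_zero_vanish χ.2 r hr h6 ?_
  obtain ⟨j, hj⟩ := hxr
  have h7 := orderOf_dvd_of_pow_eq_one hj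
  obtain ⟨i, -, hi⟩ := (Nat.dvd_prime_pow hr).1 h7
  rw [hi]
  refine dvd_pow_self r ?_
  rintro rfl
  rw [pow_zero, orderOf_eq_one_iff] at hi
  exact hx hi

/-- **A second odd degree from a set of real unipotent elements forming an odd number of classes.** -/
theorem of_classes (hna : ∃ a b : S, a * b ≠ b * a) {r : ℕ} (hr : r.Prime) (hS : IsLieTypeChar r S) (Y : Set S)
    (hY : ∀ a : MulAut S, ∀ y ∈ Y, a y ∈ Y)
    (hL : ∀ y ∈ Y, y ≠ 1 ∧ (∃ k, y ^ r ^ k = 1) ∧ IsConj y y⁻¹)
    (hodd : Odd (Nat.card {c : ConjClasses S // ∃ y ∈ Y, c = ConjClasses.mk y})) : SecondOdd r S := by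
  classical
  haveI : Fact (Nat.Prime 2) := ⟨Nat.prime_two⟩
  let P : Sylow 2 (MulAut S) := default
  let X := {c : ConjClasses S // ∃ y ∈ Y, c = ConjClasses.mk y}
  let act : MulAction P X :=
    { smul := fun a c => ⟨ConjClasses.map ((a : MulAut S) : S ≃* S).toMonoidHom c.1, by
        obtain ⟨y, hy, hcy⟩ := c.2
        exact ⟨(a : MulAut S) y, hY _ _ hy, by rw [hcy]; rfl⟩⟩
      one_smul := fun c => Subtype.ext (by
        obtain ⟨c, y, hy, rfl⟩ := c
        rfl)
      mul_smul := fun a b c => Subtype.ext (by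
        obtain ⟨c, y, hy, rfl⟩ := c
        rfl) }
  have h1 := P.2.card_modEq_card_fixedPoints X
  have h2 : Odd (Nat.card (MulAction.fixedPoints P X)) := by
    rw [Nat.odd_iff] at hodd ⊢
    rw [← hodd]
    exact h1.symm
  obtain ⟨c, hcf⟩ : (MulAction.fixedPoints P X).Nonempty := by
    rw [Set.nonempty_iff_ne_empty]
    intro h3
    rw [h3] at h2
    simp at h2
  obtain ⟨c, y, hy, rfl⟩ := c
  obtain ⟨h3, h4, h5⟩ := hL y hy
  refine of_point hna hr hS P h3 h4 h5 fun a ha => ?_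
  have h6 : (⟨a, ha⟩ : P) • (⟨ConjClasses.mk y, y, hy, rfl⟩ : X) = ⟨ConjClasses.mk y, y, hy, rfl⟩ := hcf ⟨a, ha⟩
  have h7 : ConjClasses.mk (a y) = ConjClasses.mk y := congrArg Subtype.val h6
  exact (ConjClasses.mk_eq_mk_iff_isConj.1 h7).symm

/-- the elements of `Yset` -/
theorem of_ocAt (hna : ∃ a b : S, a * b ≠ b * a) {r : ℕ} (hr : r.Prime) (hS : IsLieTypeChar r S)
    (h : H610.OddOC.OcAt r S) : SecondOdd r S := by
  obtain ⟨-, -, h1, h2⟩ := h
  exact of_classes hna hr hS (H610.OddOC.Yset r S) (fun a y hy => (H610.OddOC.mem_Yset_iff a y).2 hy)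
    (fun y hy => ⟨hy.1, hy.2.1, h1 y hy⟩) h2

end

end Cfsg.Agent.H494.R4
end

-- part: H494/R4/SubOdd
section
/-!
# A second odd degree from a characteristic class of subgroups (helper494, S4554)

`second_of_subgroup` : `H ≤ S` mapped to its conjugates by all automorphisms, `|S : H|` even, `r ∣ |H ∩ H^x|` for all
`x`: then `SecondOdd r S`.
-/

set_option autoImplicit false
set_option linter.unusedSectionVars false

namespace Cfsg.Agent.H494.R4

open Cfsg Cfsg.Agent.Characters Cfsg.Agent.Blocks Cfsg.Agent.H686.CharKit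
open Cfsg.Agent.H727.Orth Cfsg.Agent.H619.R4
open Cfsg.Agent.H705.StrongLin (ind ind_eq real_of_ind)
open Cfsg.Agent.H694 (ind_cases ind_eq_zero_iff cj cj_cj charDegree_cj sum_eq_sum_real real_of_ind_ne)
open Cfsg.Agent.H685.R4 (mult mult_spec mult_eq_zero_iff mult_cIrr cIrr sum_deg_mult triv mult_triv deg_triv)
open scoped ComplexConjugate

universe u

theorem zmod_two : ∀ z : ZMod 2, z + z = 0 := by decide

variable {S : Type u} [Group S] [Finite S]

theorem mult_autIrr (H : Subgroup S) [Fintype H] (χ : IrrCharacter S) (a : MulAut S) {g : S}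
    (hg : H.map (a⁻¹ : MulAut S).toMonoidHom = H.map (MulAut.conj g).toMonoidHom) :
    mult H (autIrr a χ) = mult H χ := by
  classical
  have hH : (Nat.card H : ℂ) ≠ 0 := by exact_mod_cast Nat.card_pos.ne'
  have h1 := mult_spec H (autIrr a χ)
  have h2 := mult_spec H χ
  have h3 : ∑ h : H, (autIrr a χ : S → ℂ) h = ∑ h : H, (χ : S → ℂ) h := by
    have hK : ∀ (K K' : Subgroup S) (hKK : K = K') [Fintype K] [Fintype K'],
        ∑ h : K, (χ : S → ℂ) h = ∑ h : K', (χ : S → ℂ) h := by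
      rintro K _ rfl i1 i2
      rw [Subsingleton.elim i1 i2]
    have := Fintype.ofFinite (H.map (a⁻¹ : MulAut S).toMonoidHom)
    have := Fintype.ofFinite (H.map (MulAut.conj g).toMonoidHom)
    have e1 : ∑ h : H, (autIrr a χ : S → ℂ) h = ∑ h : H.map (a⁻¹ : MulAut S).toMonoidHom, (χ : S → ℂ) h :=
      Fintype.sum_equiv (H.equivMapOfInjective (a⁻¹ : MulAut S).toMonoidHom (a⁻¹ : MulAut S).injective).toEquiv
        (fun h : H => (autIrr a χ : S → ℂ) h)
        (fun h : H.map (a⁻¹ : MulAut S).toMonoidHom => (χ : S → ℂ) h) (fun h => rfl)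
    have e2 : ∑ h : H, (χ : S → ℂ) h = ∑ h : H.map (MulAut.conj g).toMonoidHom, (χ : S → ℂ) h :=
      Fintype.sum_equiv (H.equivMapOfInjective (MulAut.conj g).toMonoidHom (MulAut.conj g).injective).toEquiv
        (fun h : H => (χ : S → ℂ) h)
        (fun h : H.map (MulAut.conj g).toMonoidHom => (χ : S → ℂ) h) (fun h => by
          show (χ : S → ℂ) h = (χ : S → ℂ) (g * (h : S) * g⁻¹)
          exact (Core.isIrr_isClassFunction χ.2 (h : S) g).symm)
    rw [e1, e2]
    exact hK _ _ hg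
  rw [h3, h2] at h1
  exact_mod_cast (mul_left_cancel₀ hH h1).symm

/-- **A second odd degree from a characteristic class of subgroups.** -/
theorem second_of_subgroup [IsSimpleGroup S] (hna : ∃ a b : S, a * b ≠ b * a) {r : ℕ} (hr : r.Prime)
    (hS : IsLieTypeChar r S) (H : Subgroup S)
    (hα : ∀ α : S ≃* S, ∃ g : S, H.map α.toMonoidHom = H.map (MulAut.conj g).toMonoidHom) (heven : Even H.index)
    (hdvd : ∀ x : S, r ∣ Nat.card ↥(H ⊓ H.map (MulAut.conj x).toMonoidHom)) : SecondOdd r S := by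
  classical
  haveI : Fact (Nat.Prime 2) := ⟨Nat.prime_two⟩
  have := Fintype.ofFinite S
  have := Fintype.ofFinite H
  have := Core.finite_irr (G := S)
  have := Fintype.ofFinite (IrrCharacter S)
  let T : Sylow 2 (MulAut S) := default
  have h2 := zmod_two
  obtain ⟨f, hf⟩ : ∃ f : IrrCharacter S → ZMod 2, ∀ χ, f χ = ((charDegree (χ : S → ℂ) * mult H χ : ℕ) : ZMod 2) :=
    ⟨_, fun _ => rfl⟩
  have h0 : ∑ χ : IrrCharacter S, f χ = 0 := by
    rw [Finset.sum_congr rfl fun χ _ => hf χ, ← Nat.cast_sum, sum_deg_mult]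
    exact (ZMod.natCast_eq_zero_iff_even).2 heven
  have hfone : f (triv S) = 1 := by rw [hf, mult_triv, deg_triv]; norm_num
  have hcj : ∀ χ, f (cj χ) = f χ := by
    intro χ
    have h3 : cj χ = cIrr χ := rfl
    rw [hf, hf, charDegree_cj, h3, mult_cIrr]
  have h3 := sum_eq_sum_real h2 f hcj
  rw [h0] at h3
  have h4 : ∑ᶠ χ ∈ {χ : IrrCharacter S | ind (χ : S → ℂ) ≠ 0}, f χ =
      ∑ χ ∈ Finset.univ.filter (fun χ : IrrCharacter S => ind (χ : S → ℂ) ≠ 0), f χ := by
    rw [← finsum_mem_coe_finset]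
    congr 1
    funext χ
    simp only [_root_.ne_eq, _root_.Set.mem_ofPred_eq, _root_.Finset.coe_filter, _root_.Finset.mem_univ, _root_.true_and]
  rw [h4] at h3
  have hind1 : ind ((triv S : IrrCharacter S) : S → ℂ) ≠ 0 := by
    intro h
    obtain ⟨s, hs⟩ := (ind_eq_zero_iff (triv S).2).1 h
    apply hs
    show ((1 : ℂ)).im = 0
    simp
  have h5 : triv S ∈ Finset.univ.filter (fun χ : IrrCharacter S => ind (χ : S → ℂ) ≠ 0) := by
    rw [Finset.mem_filter]
    exact ⟨Finset.mem_univ _, hind1⟩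
  rw [← Finset.add_sum_erase _ _ h5, hfone] at h3
  have h6 : ∑ χ ∈ (Finset.univ.filter (fun χ : IrrCharacter S => ind (χ : S → ℂ) ≠ 0)).erase (triv S), f χ ≠ 0 := by
    intro h
    rw [h, add_zero] at h3
    exact one_ne_zero h3.symm
  obtain ⟨s, hs0, hsodd⟩ := exists_odd_fiber h2 f _ h6
  obtain ⟨X, hX⟩ : ∃ X : Set (IrrCharacter S),
      X = {χ : IrrCharacter S | (ind (χ : S → ℂ) ≠ 0 ∧ χ ≠ triv S) ∧ f χ = s} := ⟨_, rfl⟩
  have hXc : Odd (Nat.card X) := by
    have h6 : Nat.card X = (((Finset.univ.filter (fun χ : IrrCharacter S => ind (χ : S → ℂ) ≠ 0)).erase (triv S)).filter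
        fun χ : IrrCharacter S => f χ = s).card := by
      rw [Nat.card_eq_fintype_card, ← Set.toFinset_card]
      congr 1
      ext χ
      rw [Set.mem_toFinset, hX, Finset.mem_filter, Finset.mem_erase, Finset.mem_filter]
      exact ⟨fun h => ⟨⟨h.1.2, Finset.mem_univ _, h.1.1⟩, h.2⟩, fun h => ⟨⟨h.1.2.2, h.1.1⟩, h.2⟩⟩
    rw [h6]
    exact hsodd
  obtain ⟨χ, hχX, hχT⟩ := exists_fixed_aut (T : Subgroup (MulAut S)) T.2 X hXc (by
    intro a haT χ hχ
    rw [hX] at hχ ⊢
    obtain ⟨⟨h6, h7⟩, h8⟩ := hχ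
    refine ⟨⟨?_, ?_⟩, ?_⟩
    · intro h9
      apply h6
      obtain ⟨s, hs⟩ := (ind_eq_zero_iff (autIrr a χ).2).1 h9
      exact (ind_eq_zero_iff χ.2).2 ⟨_, hs⟩
    · intro h9
      apply h7
      apply Subtype.ext
      funext s
      have h10 := congrFun (congrArg (fun z : IrrCharacter S => (z : S → ℂ)) h9) (a s)
      have h11 : (χ : S → ℂ) (a⁻¹ (a s)) = 1 := h10
      rw [MulAut.inv_apply_self] at h11
      exact h11
    · rw [← h8, hf, hf]
      have h9 : charDegree (autIrr a χ : S → ℂ) = charDegree (χ : S → ℂ) := by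
        have h10 : (charDegree (autIrr a χ : S → ℂ) : ℂ) = charDegree (χ : S → ℂ) := by
          rw [← Cfsg.Agent.Blocks.Basic.irr_one_eq_charDegree (autIrr a χ).2,
            ← Cfsg.Agent.Blocks.Basic.irr_one_eq_charDegree χ.2, autIrr_apply, map_one]
        exact_mod_cast h10
      obtain ⟨g, hg⟩ := hα (a⁻¹ : MulAut S)
      rw [h9, mult_autIrr H χ a hg])
  rw [hX] at hχX
  obtain ⟨⟨h6, h7⟩, h8⟩ := hχX
  have h9 : f χ ≠ 0 := by rw [h8]; exact hs0
  rw [hf, ne_eq, ZMod.natCast_eq_zero_iff_even, Nat.not_even_iff_odd, Nat.odd_mul] at h9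
  refine of_char hna hr T χ.2 (fun s => real_of_ind_ne χ.2 h6 s) h9.1 (fun h => h7 (Subtype.ext h)) hχT ?_
  intro k hk
  have h10 := H949.LieDZ.defect_zero_of_pow hna hr hS χ.2 (fun h => h7 (Subtype.ext h)) hk
  have h11 := H949.SubInv.sum_eq_zero hr H hdvd χ.2 h10
  rw [← mult_eq_zero_iff] at h11
  rw [h11] at h9
  exact absurd h9.2 (by decide)

end Cfsg.Agent.H494.R4
end

-- part: H494/R4/Par
section
/-!
# A second odd degree for groups with a split (B,N)-pair of odd characteristic (helper494, S4554)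

* `second_of_splitT` : `J ≠ ∅` invariant under the symmetries of the diagram, `|W : W_J|` even;
* `second_of_noSwap` : type `B₂` without exchange of the parabolic subgroups.
-/

set_option autoImplicit false
set_option linter.unusedSectionVars false

namespace Cfsg.Agent.H494.R4

open Cfsg Cfsg.Agent.LieExceptional.BNPairCore Cfsg.Agent.Tits.Core Cfsg.Agent.FixBN
open Cfsg.Agent.H288.BnAbs Cfsg.Agent.H288.BnTwo
open Cfsg.Agent.H694 (PJ PJ_sub B_le_PJ exists_type_perm index_mod cB parity_B map_conj_conj map_conj_one)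
open Cfsg.Agent.Omega.ML.Ex.Typ (HasSplitT HasRGDT)
open Cfsg.Agent.H612.RowB2 (no_map ident map_conj_map)

universe u

variable {S : Type u} [Group S] [Finite S]

/-- `r` divides the orders of the intersections of conjugates of `P_J`, `J ≠ ∅` -/
theorem dvd_card_PJ {r : ℕ} [Fact r.Prime] {P : Cfsg.BNPair S} {U : Subgroup S} (hs : Split P r U) {I : Type*}
    (e : I ≃ P.S) {J : Set I} {j : I} (hj : j ∈ J) (x : S) :
    r ∣ Nat.card ↥(PJ P e J ⊓ (PJ P e J).map (MulAut.conj x).toMonoidHom) := by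
  have h1 := H687.dvd_card_inf hs (e j).2 x
  have h2 : P.parabolic {((e j : P.S) : S)} ≤ PJ P e J := by
    unfold H694.PJ
    refine sup_le_sup_left (Subgroup.closure_mono ?_) _
    intro y hy
    rw [Set.mem_singleton_iff] at hy
    exact ⟨j, hj, hy.symm⟩
  exact h1.trans (Subgroup.card_dvd_of_le (inf_le_inf h2 (Subgroup.map_mono h2)))

variable [IsSimpleGroup S]

/-- **Odd characteristic, invariant `J`.** -/
theorem second_of_splitT (hna : ∃ a b : S, a * b ≠ b * a) {r : ℕ} (hr : r.Prime) (hr2 : r ≠ 2)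
    (hS : IsLieTypeChar r S) {I : Type*} [Finite I] {M : CoxeterMatrix I} (hK : HasSplitT r M S) (J : Set I) {j : I}
    (hj : j ∈ J) (hJ : ∀ σ : I ≃ I, (∀ i j, M (σ i) (σ j) = M i j) → σ '' J = J)
    (heven : ∀ (W : Type u) [Group W] [Finite W] (cs : CoxeterSystem M W), Even (WJ cs J).index) :
    SecondOdd r S := by
  obtain ⟨P, U, e, hs, hN, cs, hcs⟩ := hK
  have : Fact r.Prime := ⟨hr⟩
  refine second_of_subgroup hna hr hS (PJ P e J) ?_ ?_ (fun x => dvd_card_PJ hs e hj x)
  · intro α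
    obtain ⟨σ, hσ, h⟩ := exists_type_perm e cs hcs hs α
    obtain ⟨g, hg⟩ := h J
    rw [hJ σ hσ] at hg
    exact ⟨g, hg⟩
  · have h1 := index_mod e cs hcs (hr.odd_of_ne_two hr2) hs J
    have h2 := heven (Tits.OfBN.WP P) cs
    rw [Nat.even_iff] at h2 ⊢
    rw [h1, h2]

/-- **Type `B₂` without exchange of the parabolic subgroups.** -/
theorem second_of_noSwap (hna : ∃ a b : S, a * b ≠ b * a) {r : ℕ} (hr : r.Prime) (hr2 : r ≠ 2)
    (hS : IsLieTypeChar r S) (hK : HasSplitT r (CoxeterMatrix.B 2) S) (h : NoSwap r S) : SecondOdd r S := by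
  obtain ⟨P, U, e, hs, hN, cs, hcs⟩ := hK
  have : Fact r.Prime := ⟨hr⟩
  obtain ⟨U', R, hR, hsw⟩ := h
  obtain ⟨g, σ, hσi, hσ⟩ := ident hR hs e
  have h1 : {i : Fin 2 | cB 2 i = 0} = {1} := by
    ext i
    show cB 2 i = 0 ↔ i = 1
    revert i
    decide
  refine second_of_subgroup hna hr hS (PJ P e {i | cB 2 i = 0}) ?_ ?_
    (fun x => dvd_card_PJ hs e (j := 1) (by rw [h1]; rfl) x)
  · rw [h1]
    intro α
    obtain ⟨τ, -, h⟩ := exists_type_perm e cs hcs hs α
    obtain ⟨t, ht⟩ := h {1}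
    rw [Set.image_singleton] at ht
    by_cases hτ : τ 1 = 1
    · rw [hτ] at ht
      exact ⟨t, ht⟩
    exfalso
    have hτ0 : τ 1 = 0 := by
      revert hτ
      generalize τ 1 = x
      revert x
      decide
    rw [hτ0] at ht
    -- `PJ {1} ↦ PJ {0}` up to conjugation
    have hback : ∀ i, PJ P e {i} = (R {σ i}).map (MulAut.conj g⁻¹).toMonoidHom := by
      intro i
      rw [← hσ]
      show PJ P e {i} = ((PJ P e {i}).map (MulAut.conj g).toMonoidHom).map (MulAut.conj g⁻¹).toMonoidHom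
      rw [map_conj_conj, inv_mul_cancel, map_conj_one]
    have h2 : (R {σ 1}).map α.toMonoidHom =
        (R {σ 0}).map (MulAut.conj (α g * (t * g⁻¹))).toMonoidHom := by
      have h3 : R {σ 1} = (PJ P e {1}).map (MulAut.conj g).toMonoidHom := (hσ 1).symm
      rw [h3, map_conj_map, ht, map_conj_conj]
      have h4 := hback 0
      conv_lhs => rw [h4]
      rw [map_conj_conj]
      congr 3
      group
    have h01 : σ 0 ≠ σ 1 := fun h => absurd (hσi h) (by decide)
    have hcase : (σ 1 = 0 ∧ σ 0 = 1) ∨ (σ 1 = 1 ∧ σ 0 = 0) := by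
      revert h01
      generalize σ 0 = x
      generalize σ 1 = y
      revert x y
      decide
    rcases hcase with ⟨h5, h6⟩ | ⟨h5, h6⟩
    · rw [h5, h6] at h2
      exact no_map hR hsw α _ h2
    · rw [h5, h6] at h2
      generalize α g * (t * g⁻¹) = x at h2
      have h3 : ((R {1}).map α.toMonoidHom).map α.symm.toMonoidHom =
          ((R {0}).map (MulAut.conj x).toMonoidHom).map α.symm.toMonoidHom := by rw [h2]
      rw [Cfsg.Agent.H694.map_map_symm α (R {1}), map_conj_map] at h3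
      refine no_map hR hsw α.symm (α.symm x)⁻¹ ?_
      rw [h3, map_conj_conj, inv_mul_cancel, map_conj_one]
  · obtain ⟨h2, -⟩ := parity_B (le_refl 2) cs
    have h4 := index_mod e cs hcs (hr.odd_of_ne_two hr2) hs {i | cB 2 i = 0}
    rw [Nat.even_iff, h4, h2]

end Cfsg.Agent.H494.R4
end

-- part: H494/R4/Types
section
/-!
# A second odd degree: the types of rank at least three in odd characteristic (helper494, S4554)
-/

set_option autoImplicit false
set_option linter.unusedSectionVars false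

namespace Cfsg.Agent.H494.R4

open Cfsg Cfsg.Agent.Tits.Core Cfsg.Agent.Nodes Cfsg.Agent.H694
open Cfsg.Agent.Omega.ML.Ex.Typ (HasSplitT HasRGDT)
open Cfsg.Agent.LieRecognition.BNCox (cA)

universe u

variable {K : Type u} [Group K] [Finite K] [IsSimpleGroup K] {p : ℕ}

/-- type `A_n`, `n ≥ 3` -/
theorem second_A (hna : ∃ a b : K, a * b ≠ b * a) (hS : IsLieTypeChar p K) {n : ℕ} (hn : 3 ≤ n) (hp : p.Prime) (hp2 : p ≠ 2) (hK : HasSplitT p (cA n) K) :
    SecondOdd p K := by
  refine second_of_splitT hna hp hp2 hS hK {i | cAd n i = 0} (j := ⟨1, by omega⟩)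
    (cAd_eq_zero.2 (by simp; omega)) ?_ ?_
  · intro σ hσ
    have h1 : {i : Fin n | cAd n i = 0} = {i : Fin n | (i : ℕ) = 0 ∨ (i : ℕ) = n - 1}ᶜ := by
      ext i
      exact cAd_eq_zero
    rw [h1]
    exact image_compl_eq σ _ fun i hi => leaf_A hn σ hσ i hi
  · intro W _ _ cs
    obtain ⟨h1, -⟩ := parity_A hn cs
    rw [h1]
    exact Nat.even_mul_succ_self n

/-- type `B_n`, `n ≥ 3` -/
theorem second_B (hna : ∃ a b : K, a * b ≠ b * a) (hS : IsLieTypeChar p K) {n : ℕ} (hn : 3 ≤ n) (hp : p.Prime) (hp2 : p ≠ 2)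
    (hK : HasSplitT p (CoxeterMatrix.B n) K) : SecondOdd p K := by
  refine second_of_splitT hna hp hp2 hS hK {i | cB n i = 0} (j := ⟨1, by omega⟩)
    (cB_eq_zero.2 (by simp)) (fun σ hσ => stable_B hn _ σ hσ) ?_
  intro W _ _ cs
  obtain ⟨h1, -⟩ := parity_B (by omega) cs
  rw [h1]
  exact even_two_mul n

/-- type `D_{n+2}`, `n ≥ 3` -/
theorem second_D (hna : ∃ a b : K, a * b ≠ b * a) (hS : IsLieTypeChar p K) {n : ℕ} (hn : 3 ≤ n) (hp : p.Prime) (hp2 : p ≠ 2)
    (hK : HasSplitT p (TypeD.M n) K) : SecondOdd p K := by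
  refine second_of_splitT hna hp hp2 hS hK {i | cB (n + 2) i = 0} (j := ⟨1, by omega⟩)
    (cB_eq_zero.2 (by simp)) ?_ ?_
  · intro σ hσ
    have h1 : {i : Fin (n + 2) | cB (n + 2) i = 0} = {i : Fin (n + 2) | (i : ℕ) = 0}ᶜ := by
      ext i
      exact cB_eq_zero
    rw [h1]
    refine image_compl_eq σ _ fun i hi => ?_
    have hi' : (i : ℕ) = 0 := hi
    rw [fix_D hn σ hσ i (by omega)]
    exact hi
  · intro W _ _ cs
    obtain ⟨h1, -⟩ := parity_D (by omega) cs
    rw [h1]
    exact even_two_mul _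

/-- type `D₄` -/
theorem second_D4 (hna : ∃ a b : K, a * b ≠ b * a) (hS : IsLieTypeChar p K) (hp : p.Prime) (hp2 : p ≠ 2) (hK : HasSplitT p (TypeD.M 2) K) : SecondOdd p K := by
  refine second_of_splitT hna hp hp2 hS hK {i | dc 34968 i = 0} (j := 0)
    (show dc 34968 _ = 0 by decide) ?_ ?_
  · intro σ hσ
    have h1 : {i : Fin (2 + 2) | dc 34968 i = 0} = {i : Fin (2 + 2) | i = 1}ᶜ := by
      ext i
      show dc 34968 i = 0 ↔ ¬ (i = 1)
      revert i
      decide
    rw [h1]
    refine image_compl_eq σ _ fun i hi => ?_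
    have hi' : i = 1 := hi
    have h2 := wk_inv σ hσ 1 i
    subst hi'
    revert h2
    generalize σ 1 = x
    show wk (TypeD.M 2) 1 x = wk (TypeD.M 2) 1 1 → x = 1
    revert x
    decide
  · intro W _ _ cs
    obtain ⟨h1, -⟩ := parity_D4 cs
    rw [h1]
    decide

/-- type `F₄` -/
theorem second_F4 (hna : ∃ a b : K, a * b ≠ b * a) (hS : IsLieTypeChar p K) (hp : p.Prime) (hp2 : p ≠ 2) (hK : HasSplitT p CoxeterMatrix.F₄ K) : SecondOdd p K := by
  refine second_of_splitT hna hp hp2 hS hK {i | dc 39049 i = 0} (j := 1)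
    (show dc 39049 _ = 0 by decide) ?_ ?_
  · intro σ hσ
    have h1 : {i : Fin 4 | dc 39049 i = 0} = {i : Fin 4 | i = 0 ∨ i = 3}ᶜ := by
      ext i
      show dc 39049 i = 0 ↔ ¬ (i = 0 ∨ i = 3)
      revert i
      decide
    rw [h1]
    refine image_compl_eq σ _ fun i hi => ?_
    show σ i = 0 ∨ σ i = 3
    have hi' : i = 0 ∨ i = 3 := hi
    clear h1 hi
    by_contra hcon
    -- the nodes `1, 2` are those with a bond of label `4`
    have h4 : ∀ x : Fin 4, ¬ (x = 0 ∨ x = 3) →
        CoxeterMatrix.F₄ x 1 = 4 ∨ CoxeterMatrix.F₄ x 2 = 4 := by decide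
    obtain ⟨j, hj⟩ : ∃ j, CoxeterMatrix.F₄ (σ i) j = 4 := by
      rcases h4 _ hcon with h5 | h5
      · exact ⟨_, h5⟩
      · exact ⟨_, h5⟩
    obtain ⟨k, rfl⟩ := σ.surjective j
    rw [hσ] at hj
    revert hj
    rcases hi' with rfl | rfl <;> revert k <;> decide
  · intro W _ _ cs
    obtain ⟨h1, -⟩ := parity_F4 cs
    rw [h1]
    decide

/-- type `E₆` -/
theorem second_E6 (hna : ∃ a b : K, a * b ≠ b * a) (hS : IsLieTypeChar p K) (hp : p.Prime) (hp2 : p ≠ 2) (hK : HasSplitT p CoxeterMatrix.E₆ K) :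
    SecondOdd p K := by
  refine second_of_splitT hna hp hp2 hS hK {i | dc 8947864 i = 0} (j := 0)
    (show dc 8947864 _ = 0 by decide) ?_ ?_
  · intro σ hσ
    have h1 : {i : Fin 6 | dc 8947864 i = 0} = {i : Fin 6 | i = 1}ᶜ := by
      ext i
      show dc 8947864 i = 0 ↔ ¬ (i = 1)
      revert i
      decide
    rw [h1]
    refine image_compl_eq σ _ fun i hi => ?_
    have hi' : i = 1 := hi
    have h2 := wk_inv σ hσ 1 i
    have h3 := wk_inv σ hσ 2 i
    subst hi'
    revert h2 h3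
    generalize σ 1 = x
    show wk CoxeterMatrix.E₆ 1 x = wk CoxeterMatrix.E₆ 1 1 →
      wk CoxeterMatrix.E₆ 2 x = wk CoxeterMatrix.E₆ 2 1 → x = 1
    revert x
    decide +kernel
  · intro W _ _ cs
    obtain ⟨h1, -⟩ := parity_E6 cs
    rw [h1]
    decide

/-- type `E₇` -/
theorem second_E7 (hna : ∃ a b : K, a * b ≠ b * a) (hS : IsLieTypeChar p K) (hp : p.Prime) (hp2 : p ≠ 2) (hK : HasSplitT p CoxeterMatrix.E₇ K) :
    SecondOdd p K := by
  refine second_of_splitT hna hp hp2 hS hK {i | dc 143165577 i = 0} (j := 1)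
    (show dc 143165577 _ = 0 by decide) ?_ ?_
  · intro σ hσ
    have h1 : {i : Fin 7 | dc 143165577 i = 0} = {i : Fin 7 | i = 0}ᶜ := by
      ext i
      show dc 143165577 i = 0 ↔ ¬ (i = 0)
      revert i
      decide
    rw [h1]
    refine image_compl_eq σ _ fun i hi => ?_
    have hi' : i = 0 := hi
    have h2 := wk_inv σ hσ 1 i
    have h3 := wk_inv σ hσ 3 i
    subst hi'
    revert h2 h3
    generalize σ 0 = x
    show wk CoxeterMatrix.E₇ 1 x = wk CoxeterMatrix.E₇ 1 0 →
      wk CoxeterMatrix.E₇ 3 x = wk CoxeterMatrix.E₇ 3 0 → x = 0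
    revert x
    decide +kernel
  · intro W _ _ cs
    obtain ⟨h1, -⟩ := parity_E7 cs
    rw [h1]
    decide

/-- type `E₈` -/
theorem second_E8 (hna : ∃ a b : K, a * b ≠ b * a) (hS : IsLieTypeChar p K) (hp : p.Prime) (hp2 : p ≠ 2) (hK : HasSplitT p CoxeterMatrix.E₈ K) :
    SecondOdd p K := by
  refine second_of_splitT hna hp hp2 hS hK {i | dc 2559084680 i = 0} (j := 0)
    (show dc 2559084680 _ = 0 by decide) ?_ ?_
  · intro σ hσ
    have h1 : {i : Fin 8 | dc 2559084680 i = 0} = {i : Fin 8 | i = 7}ᶜ := by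
      ext i
      show dc 2559084680 i = 0 ↔ ¬ (i = 7)
      revert i
      decide
    rw [h1]
    refine image_compl_eq σ _ fun i hi => ?_
    have hi' : i = 7 := hi
    have h2 := wk_inv σ hσ 1 i
    have h3 := wk_inv σ hσ 3 i
    subst hi'
    revert h2 h3
    generalize σ 7 = x
    show wk CoxeterMatrix.E₈ 1 x = wk CoxeterMatrix.E₈ 1 7 →
      wk CoxeterMatrix.E₈ 3 x = wk CoxeterMatrix.E₈ 3 7 → x = 7
    revert x
    decide +kernel
  · intro W _ _ cs
    obtain ⟨h1, -⟩ := parity_E8 cs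
    rw [h1]
    decide

end Cfsg.Agent.H494.R4
end

-- part: H494/R4/OcP
section
/-!
# Real regular unipotent elements forming an odd number of classes (helper494, S4554)

The results of helper610 (`OddReg`, `OddRegLie`, `OddReg3D4`, `OddThree`) with the information that the elements are
`p`-elements, `p` the characteristic.
-/

set_option autoImplicit false
set_option linter.unusedSectionVars false

namespace Cfsg.Agent.H494.R4

open Subgroup Cfsg Cfsg.Agent.H610.OddOC Cfsg.Agent.H610.OddReg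

/-- A set of real `p`-elements `≠ 1`, stable under all automorphisms, forming an odd number of classes. -/
def OcSetP (p : ℕ) (N : Type*) [Group N] : Prop :=
  ∃ Y : Set N, (∀ a : MulAut N, ∀ y ∈ Y, a y ∈ Y) ∧
    (∀ y ∈ Y, y ≠ 1 ∧ (∃ k : ℕ, y ^ p ^ k = 1) ∧ IsConj y y⁻¹) ∧
    Odd (Nat.card {c : ConjClasses N // ∃ y ∈ Y, c = ConjClasses.mk y})

theorem OcSetP.of_equiv {p : ℕ} {N M : Type*} [Group N] [Group M] (e : N ≃* M) (h : OcSetP p N) : OcSetP p M := by
  obtain ⟨Y, h1, h2, h3⟩ := h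
  refine ⟨{z | e.symm z ∈ Y}, ?_, ?_, ?_⟩
  · intro a z hz
    have h4 := h1 ((e.trans a).trans e.symm) _ hz
    have h5 : ((e.trans a).trans e.symm) (e.symm z) = e.symm (a z) := by simp
    rw [h5] at h4
    exact h4
  · intro z hz
    obtain ⟨k1, ⟨k, k2⟩, k3⟩ := h2 _ hz
    refine ⟨?_, ⟨k, ?_⟩, ?_⟩
    · rintro rfl
      exact k1 (map_one _)
    · apply e.symm.injective
      rw [map_pow, k2, map_one]
    · rw [← map_inv, isConj_map_iff] at k3
      exact k3
  · let f : {c : ConjClasses N // ∃ y ∈ Y, c = ConjClasses.mk y} →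
        {c : ConjClasses M // ∃ y ∈ {z | e.symm z ∈ Y}, c = ConjClasses.mk y} := fun c =>
      ⟨ConjClasses.map e.toMonoidHom c.1, by
        obtain ⟨c, y, hy, rfl⟩ := c
        refine ⟨e y, ?_, rfl⟩
        show e.symm (e y) ∈ Y
        rwa [e.symm_apply_apply]⟩
    have hf : Function.Bijective f := by
      constructor
      · rintro ⟨c, y, hy, rfl⟩ ⟨d, z, hz, rfl⟩ hcd
        apply Subtype.ext
        have h5 : ConjClasses.mk (e y) = ConjClasses.mk (e z) := congrArg Subtype.val hcd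
        rw [ConjClasses.mk_eq_mk_iff_isConj, isConj_map_iff] at h5
        exact ConjClasses.mk_eq_mk_iff_isConj.2 h5
      · rintro ⟨d, z, hz, rfl⟩
        obtain ⟨x, rfl⟩ := e.surjective z
        refine ⟨⟨ConjClasses.mk x, x, ?_, rfl⟩, rfl⟩
        have : e.symm (e x) ∈ Y := hz
        rwa [e.symm_apply_apply] at this
    rw [← Nat.card_congr (Equiv.ofBijective f hf)]
    exact h3

section Sylow

variable {N : Type*} [Group N] [Finite N] {p : ℕ}

/-- **The criterion.** -/
theorem ocSetP_of (hp : p.Prime) (hp2 : p ≠ 2) (U : Sylow p N) {B : Subgroup N} {R : Set N}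
    (hRU : ∀ y ∈ R, y ∈ U) (h1 : (1 : N) ∉ R)
    (hr1 : ∀ y ∈ R, ∀ g : N, g⁻¹ * y * g ∈ U → g ∈ B)
    (hB : ∀ b ∈ B, ∀ u ∈ U, b * u * b⁻¹ ∈ U)
    (hr2 : ∀ b ∈ B, ∀ y ∈ R, b * y * b⁻¹ ∈ R)
    (hr3 : ∀ y ∈ U, y ∉ R → ∃ g : N, g ∉ B ∧ g⁻¹ * y * g ∈ U)
    (hr4 : ∀ y ∈ R, Odd (Nat.card (centralizer ({y} : Set N)))) {a b : ℕ} (ha : Odd a) (hb : Odd b)
    (hab : a * Nat.card R = b * Nat.card B) : OcSetP p N := by
  classical
  have hfp : Fact p.Prime := ⟨hp⟩
  have hBfin : Nat.card B ≠ 0 := Nat.card_pos.ne'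
  obtain ⟨y₀, hy₀⟩ : R.Nonempty := by
    rw [Set.nonempty_iff_ne_empty]
    rintro rfl
    have h0 : Nat.card (∅ : Set N) = 0 := by simp
    rw [h0, mul_zero] at hab
    rcases mul_eq_zero.1 hab.symm with h | h
    · exact hb.pos.ne' h
    · exact hBfin h
  -- conjugates of `U`
  have hconj : ∀ (g x : N), x ∈ g • U ↔ g⁻¹ * x * g ∈ U := by
    intro g x
    show x ∈ ((g • U : Sylow p N) : Subgroup N) ↔ _
    rw [Sylow.coe_subgroup_smul, Subgroup.mem_pointwise_smul_iff_inv_smul_mem, ← map_inv,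
      MulAut.smul_def, MulAut.conj_apply, inv_inv]
    rfl
  have hBsmul : ∀ g : N, g • U = U → g ∈ B := by
    intro g hg
    apply hr1 y₀ hy₀
    rw [← hconj, hg]
    exact hRU y₀ hy₀
  have hsmulB : ∀ g ∈ B, g • U = U := by
    intro g hg
    apply Sylow.ext
    ext x
    show x ∈ g • U ↔ x ∈ U
    rw [hconj]
    constructor
    · intro h
      have h2 := hB g hg _ h
      have h3 : g * (g⁻¹ * x * g) * g⁻¹ = x := by group
      rwa [h3] at h2
    · intro h
      have h2 := hB g⁻¹ (inv_mem hg) _ h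
      rwa [inv_inv] at h2
  -- `R` is the set of elements contained in `U` only
  have hR1 : ∀ y ∈ R, ∀ Q : Sylow p N, y ∈ Q → Q = U := by
    intro y hy Q hyQ
    obtain ⟨g, rfl⟩ := MulAction.exists_smul_eq N U Q
    exact hsmulB g (hr1 y hy g ((hconj g y).1 hyQ))
  have hR2 : ∀ y ∈ U, (∀ Q : Sylow p N, y ∈ Q → Q = U) → y ∈ R := by
    intro y hy hQ
    by_contra hyR
    obtain ⟨g, hg, hyg⟩ := hr3 y hy hyR
    exact hg (hBsmul g (hQ (g • U) ((hconj g y).2 hyg)))
  have hOneR : ∀ z : N, z ∈ _root_.Cfsg.Agent.H610.OddReg.One p N ↔ ∃ g : N, g⁻¹ * z * g ∈ R := by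
    intro z
    constructor
    · rintro ⟨P, hP, hPu⟩
      obtain ⟨g, rfl⟩ := MulAction.exists_smul_eq N U P
      refine ⟨g, hR2 _ ((hconj g z).1 hP) fun Q hQ => ?_⟩
      have h2 : z ∈ g • Q := by
        show z ∈ ((g • Q : Sylow p N) : Subgroup N)
        rw [Sylow.coe_subgroup_smul, Subgroup.mem_pointwise_smul_iff_inv_smul_mem, ← map_inv,
          MulAut.smul_def, MulAut.conj_apply, inv_inv]
        exact hQ
      have h3 := hPu _ h2
      exact smul_left_cancel g h3
    · rintro ⟨g, hg⟩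
      refine ⟨g • U, (hconj g z).2 (hRU _ hg), fun Q hQ => ?_⟩
      have h2 : g⁻¹ * z * g ∈ g⁻¹ • Q := by
        show _ ∈ ((g⁻¹ • Q : Sylow p N) : Subgroup N)
        rw [Sylow.coe_subgroup_smul, Subgroup.mem_pointwise_smul_iff_inv_smul_mem, ← map_inv,
          MulAut.smul_def, MulAut.conj_apply, inv_inv]
        have h4 : g * (g⁻¹ * z * g) * g⁻¹ = z := by group
        rw [h4]
        exact hQ
      have h3 := hR1 _ hg _ h2
      rw [← h3, smul_inv_smul]
  have hOneconj : ∀ z ∈ _root_.Cfsg.Agent.H610.OddReg.One p N, ∀ g : N, g * z * g⁻¹ ∈ _root_.Cfsg.Agent.H610.OddReg.One p N := by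
    intro z hz g
    obtain ⟨k, hk⟩ := (hOneR z).1 hz
    refine (hOneR _).2 ⟨g * k, ?_⟩
    have h4 : (g * k)⁻¹ * (g * z * g⁻¹) * (g * k) = k⁻¹ * z * k := by group
    rw [h4]
    exact hk
  have hcent : ∀ z ∈ _root_.Cfsg.Agent.H610.OddReg.One p N, Odd (Nat.card (centralizer ({z} : Set N))) := by
    intro z hz
    obtain ⟨g, hg⟩ := (hOneR z).1 hz
    have h2 := hr4 _ hg
    have h3 : (MulAut.conj g⁻¹) z = g⁻¹ * z * g := by rw [MulAut.conj_apply, inv_inv]
    rw [← h3, Nat.card_congr (centEquiv (MulAut.conj g⁻¹) z).symm] at h2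
    exact h2
  -- the number of elements
  have hcount : Nat.card (One p N) * Nat.card B = Nat.card N * Nat.card R := by
    choose g₀ hg₀ using fun z : One p N => (hOneR z.1).1 z.2
    let f : One p N × B → N × R := fun x =>
      (g₀ x.1 * x.2.1, ⟨x.2.1⁻¹ * ((g₀ x.1)⁻¹ * x.1.1 * g₀ x.1) * x.2.1, by
        have h2 := hr2 x.2.1⁻¹ (inv_mem x.2.2) _ (hg₀ x.1)
        rwa [inv_inv] at h2⟩)
    have hf : Function.Bijective f := by
      constructor
      · rintro ⟨⟨z, hz⟩, ⟨b, hb⟩⟩ ⟨⟨z', hz'⟩, ⟨b', hb'⟩⟩ h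
        have e1 : g₀ ⟨z, hz⟩ * b = g₀ ⟨z', hz'⟩ * b' := congrArg Prod.fst h
        have e2 : b⁻¹ * ((g₀ ⟨z, hz⟩)⁻¹ * z * g₀ ⟨z, hz⟩) * b =
            b'⁻¹ * ((g₀ ⟨z', hz'⟩)⁻¹ * z' * g₀ ⟨z', hz'⟩) * b' :=
          congrArg (fun x : N × R => x.2.1) h
        have e3 : z = z' := by
          have e4 : z = (g₀ ⟨z, hz⟩ * b) *
              (b⁻¹ * ((g₀ ⟨z, hz⟩)⁻¹ * z * g₀ ⟨z, hz⟩) * b) * (g₀ ⟨z, hz⟩ * b)⁻¹ := by group
          rw [e4, e2, e1]
          group
        subst e3
        have e5 : b = b' := mul_left_cancel e1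
        subst e5
        rfl
      · rintro ⟨g, ⟨y, hy⟩⟩
        have hz : g * y * g⁻¹ ∈ _root_.Cfsg.Agent.H610.OddReg.One p N := by
          refine (hOneR _).2 ⟨g, ?_⟩
          have h4 : g⁻¹ * (g * y * g⁻¹) * g = y := by group
          rw [h4]
          exact hy
        set k := g₀ ⟨g * y * g⁻¹, hz⟩ with hk
        have h2 : k⁻¹ * (g * y * g⁻¹) * k ∈ R := hg₀ ⟨g * y * g⁻¹, hz⟩
        have hkB : k⁻¹ * g ∈ B := by
          refine hr1 _ h2 _ ?_
          have h4 : (k⁻¹ * g)⁻¹ * (k⁻¹ * (g * y * g⁻¹) * k) * (k⁻¹ * g) = y := by group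
          rw [h4]
          exact hRU y hy
        refine ⟨⟨⟨g * y * g⁻¹, hz⟩, ⟨k⁻¹ * g, hkB⟩⟩, ?_⟩
        refine Prod.ext ?_ (Subtype.ext ?_)
        · show k * (k⁻¹ * g) = g
          group
        · show (k⁻¹ * g)⁻¹ * (k⁻¹ * (g * y * g⁻¹) * k) * (k⁻¹ * g) = y
          group
    have h2 := Nat.card_congr (Equiv.ofBijective f hf)
    rwa [Nat.card_prod, Nat.card_prod] at h2
  have hab' : a * Nat.card (One p N) = b * Nat.card N := by
    apply Nat.eq_of_mul_eq_mul_right (Nat.pos_of_ne_zero hBfin)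
    calc a * Nat.card (One p N) * Nat.card B = a * (Nat.card (One p N) * Nat.card B) := by ring
      _ = Nat.card N * (a * Nat.card R) := by rw [hcount]; ring
      _ = b * Nat.card N * Nat.card B := by rw [hab]; ring
  have hodd := odd_real_classes (fun y hy => One.inv hy) (odd_classes hOneconj hcent ha hb hab')
  refine ⟨{y | y ∈ _root_.Cfsg.Agent.H610.OddReg.One p N ∧ IsConj y y⁻¹}, ?_, ?_, hodd⟩
  · rintro α y ⟨⟨P, hP, hPu⟩, hy⟩
    refine ⟨?_, ?_⟩
    · have hmem : ∀ (β : MulAut N) (Q : Sylow p N) (x : N), x ∈ β • Q ↔ β⁻¹ x ∈ Q := by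
        intro β Q x
        show x ∈ ((β • Q : Sylow p N) : Subgroup N) ↔ _
        rw [Sylow.pointwise_smul_def, Subgroup.mem_pointwise_smul_iff_inv_smul_mem]
        rfl
      refine ⟨α • P, (hmem _ _ _).2 ?_, fun Q hQ => ?_⟩
      · rw [MulAut.inv_apply_self]
        exact hP
      · have h2 : y ∈ α⁻¹ • Q := by
          rw [hmem, inv_inv]
          exact hQ
        rw [← hPu _ h2, smul_inv_smul]
    · rw [← map_inv]
      exact (isConj_map_iff α _ _).2 hy
  · rintro y ⟨hy, hyr⟩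
    obtain ⟨g, hg⟩ := (hOneR y).1 hy
    refine ⟨?_, ?_, hyr⟩
    · rintro rfl
      rw [mul_one, inv_mul_cancel] at hg
      exact h1 hg
    · obtain ⟨P, hP, -⟩ := hy
      obtain ⟨k, hk⟩ := P.isPGroup' ⟨y, hP⟩
      exact ⟨k, congrArg Subtype.val hk⟩

end Sylow

end Cfsg.Agent.H494.R4

namespace Cfsg.Agent.H494.R4

open Cfsg Cfsg.Lie Cfsg.Agent.ChevalleyStructure.Elts Cfsg.Agent.ChevalleyStructure.RootVec
  Cfsg.Agent.ChevalleyStructure.RootVecTab Cfsg.Agent.H610.ChevRegular Cfsg.Agent.H610.OddReg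
  Cfsg.Agent.H610.OddRegLie

universe u

section Chev

variable {F : Type u} [Field F] {D : ChevalleyDatum}

/-- **Regular unipotent classes of the Chevalley groups**, `q` odd. -/
theorem ocSetP_chev {p : ℕ} [hpc : CharP F p] [Fintype F] (hF : Odd (Fintype.card F)) (hD : InList D) (hr : 0 < D.rank)
    {d : ℕ} (hd : Odd d)
    (hH : d * Nat.card (D.diagonalSubgroup F) = (Fintype.card F - 1) ^ D.rank)
    (hS : ∀ p : ℕ, p.Prime → p ∣ Fintype.card F →
      ¬ p ∣ ((D.posUnipotent F).subgroupOf (D.group F)).index) : OcSetP p (D.group F) := by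
  classical
  obtain ⟨⟨m, hm⟩, hp, hcard⟩ := FiniteField.card F p
  simp only [PNat.mk_coe] at hcard
  have hfp : Fact p.Prime := ⟨hp⟩
  have hp2 : p ≠ 2 := by
    rintro rfl
    rw [hcard, Nat.odd_pow_iff hm.ne'] at hF
    exact absurd hF (by decide)
  have hcardU : Nat.card (D.posUnipotent F) = Fintype.card F ^ (D.nroots / 2) :=
    Cfsg.Agent.S1027.result D hD
  have hUp : IsPGroup p ((D.posUnipotent F).subgroupOf (D.group F)) := by
    have h1 : IsPGroup p (D.posUnipotent F) :=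
      IsPGroup.of_card (n := m * (D.nroots / 2)) (by rw [hcardU, hcard, pow_mul])
    exact h1.of_injective (Subgroup.subgroupOfEquivOfLe (posUnipotent_le_group hD F)).toMonoidHom
      (Subgroup.subgroupOfEquivOfLe (posUnipotent_le_group hD F)).injective
  have hpd : p ∣ Fintype.card F := by rw [hcard]; exact dvd_pow_self p hm.ne'
  let U : Sylow p (D.group F) := hUp.toSylow (hS p hp hpd)
  have hU : ∀ y : D.group F, y ∈ U ↔ y.1 ∈ D.posUnipotent F := fun y => Iff.rfl
  refine ocSetP_of hp hp2 U (B := (D.borelSubgroup F).subgroupOf (D.group F))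
    (R := {y | Reg hD y.1}) ?_ ?_ ?_ ?_ ?_ ?_ ?_ (a := Fintype.card F ^ D.rank) (b := d) hF.pow hd ?_
  · intro y hy
    exact (hU y).2 hy.1
  · intro h
    obtain ⟨t, ht, h1⟩ := h.2 0 hr
    exact ht (comp_unique hD hr h1 (comp_one hD 0))
  · intro y hy g hg
    exact mem_borel_of_conj hD hy g.2 (Subgroup.mem_sup_left ((hU _).1 hg))
  · intro b hb u hu
    exact (hU _).2 (conj_mem_pos hD hb ((hU _).1 hu))
  · intro b hb y hy
    exact Reg.conj hy hb
  · intro y hy hyR
    obtain ⟨i, hi, h1⟩ := exists_comp_zero hD ((hU y).1 hy) hyR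
    have hnG : nG hD (D.simple i) (1 : F) ∈ D.group F := nG_mem_group hD _ _
    refine ⟨⟨nG hD (D.simple i) (1 : F), hnG⟩, ?_, (hU _).2 (Ui_le D F i ?_)⟩
    · exact nG_not_mem hD hi
    · have h2 := conj_mem_Ui hD hi (inv_mem (nG_mem (F := F) hD i)) h1
      rwa [inv_inv] at h2
  · intro y hy
    exact odd_centralizer hF hD le_rfl y.2 hy
  · have h1 : Nat.card ({y | Reg hD y.1} : Set (D.group F)) =
        Nat.card {u : GL D.Idx F // Reg hD u} := by
      refine Nat.card_congr ⟨fun y => ⟨y.1.1, y.2⟩, fun u => ⟨⟨u.1, posUnipotent_le_group hD F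
        u.2.1⟩, u.2⟩, fun y => rfl, fun u => rfl⟩
    have h2 : Nat.card ((D.borelSubgroup F).subgroupOf (D.group F)) =
        Nat.card (D.borelSubgroup F) :=
      Nat.card_congr (Subgroup.subgroupOfEquivOfLe (borel_le_group hD)).toEquiv
    rw [h1, h2, card_borel hD, card_reg hD, card_pos hD, Nat.card_eq_fintype_card, ← hH]
    ring

/-- `G₂(q)`, `q` odd. -/
theorem g2P {p : ℕ} [CharP F p] [Fintype F] (hF : Odd (Fintype.card F)) : OcSetP p (chevG2.group F) := by
  have hD : InList chevG2 := by simp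
  have h1 := Cfsg.Agent.S1035.result (F := F) rfl (chevG2, 1) (by simp only [_root_.List.mem_cons, _root_.Prod.mk.injEq, _root_.and_true, _root_.List.not_mem_nil, _root_.or_false, _root_.true_or])
  refine ocSetP_chev hF hD (by decide) odd_one h1 ?_
  intro p' hp hpd hdvd
  have h2 := Cfsg.Agent.S1059.result (F := F) rfl
  have h3 := Cfsg.Agent.S1027.result (F := F) chevG2 hD
  have h4 : chevG2.nroots / 2 = 6 := by decide
  rw [h4, ← Nat.card_congr (Subgroup.subgroupOfEquivOfLe (posUnipotent_le_group hD F)).toEquiv]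
    at h3
  have h5 := Subgroup.card_mul_index ((chevG2.posUnipotent F).subgroupOf (chevG2.group F))
  have hq : 0 < Fintype.card F := Fintype.card_pos
  rw [h3, h2, mul_assoc] at h5
  have h6 := Nat.eq_of_mul_eq_mul_left (by positivity) h5
  rw [h6, hp.dvd_mul] at hdvd
  rcases hdvd with h | h
  · exact not_dvd_pow_sub_one hp hpd hq (by norm_num) h
  · exact not_dvd_pow_sub_one hp hpd hq (by norm_num) h

end Chev

end Cfsg.Agent.H494.R4

namespace Cfsg.Agent.H494.R4

open Cfsg Cfsg.Lie Cfsg.Agent.H610.OddReg Cfsg.Agent.H610.OddRegLie Cfsg.Agent.H610.OddReg3D4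
open Cfsg.Agent.H610.ChevRegular (Comp Reg comp_mul comp_one comp_unique comp_simple comp_root
  odd_centralizer exists_of_mem_borel)
open Cfsg.Agent.H610.Table3D4 (inList twisted_le simple_vals)
open Cfsg.Agent.Schreier.ThreeD4 (tail_le_U drop_le_U xa_eq_zero xb_eq_zero)
open Cfsg.Agent.ChevalleyStructure.D4Fixed (fix twisted_le_fix)
open Cfsg.Agent.ChevalleyStructure
open Cfsg.Agent.ChevalleyStructure.D4Comm
open Cfsg.Agent.ChevalleyStructure.D4Pos
open Cfsg.Agent.ChevalleyStructure.D4U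
open Cfsg.Agent.ChevalleyStructure.TwistedU
open Cfsg.Agent.ChevalleyStructure.D4Twisted

universe u

section ThreeD

variable {K : Type u} [Field K] {q : ℕ} {φ : K →+* K}

/-- `³D₄(q)`, `q` odd. -/
theorem d4P [Fintype K] (hq : IsPrimePow q) (hK : Fintype.card K = q ^ 3) (hodd : Odd q) :
    ∃ p, p.Prime ∧ p ∣ q ∧ OcSetP p (twistedD4 K q) := by
  classical
  obtain ⟨φ, hφ⟩ := D4Fixed.exists_frob hq hK
  have hle := twisted_le_fix hK hφ
  have hK3 := phi3 hK hφ
  have hfixc := card_fix_field hq.one_lt hK hφ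
  have hKodd : Odd (Fintype.card K) := hK ▸ hodd.pow
  obtain ⟨p, m, hp, hm, rfl⟩ := (isPrimePow_nat_iff _).1 hq
  refine ⟨p, hp, dvd_pow_self p hm.ne', ?_⟩
  set q := p ^ m with hqdef
  have hfp : Fact p.Prime := ⟨hp⟩
  have hp2 : p ≠ 2 := by
    rintro rfl
    rw [hqdef, Nat.odd_pow_iff hm.ne'] at hodd
    exact absurd hodd (by decide)
  have hcardU : Nat.card ((chevD4.posUnipotent K).subgroupOf (twistedD4 K q)) = q ^ 12 := by
    rw [← card_U1 hq hK, ← Subgroup.inf_subgroupOf_right]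
    exact Nat.card_congr (Subgroup.subgroupOfEquivOfLe inf_le_right).toEquiv
  have hcardH : Nat.card ((chevD4.diagonalSubgroup K).subgroupOf (twistedD4 K q)) =
      (q - 1) ^ 2 * (q ^ 2 + q + 1) := by
    rw [← Cfsg.Agent.S1106.result hq hK, ← Subgroup.inf_subgroupOf_right]
    exact Nat.card_congr (Subgroup.subgroupOfEquivOfLe inf_le_right).toEquiv
  have hUp : IsPGroup p ((chevD4.posUnipotent K).subgroupOf (twistedD4 K q)) :=
    IsPGroup.of_card (n := m * 12) (by rw [hcardU, hqdef, pow_mul])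
  have hindex : ¬ p ∣ ((chevD4.posUnipotent K).subgroupOf (twistedD4 K q)).index := by
    intro h
    have h5 := Subgroup.card_mul_index ((chevD4.posUnipotent K).subgroupOf (twistedD4 K q))
    rw [hcardU, Cfsg.Agent.S1067.result hq hK, mul_assoc, mul_assoc] at h5
    have hq0 : 0 < q := hq.pos
    have h6 := Nat.eq_of_mul_eq_mul_left (by (clear * - hq0; positivity)) h5
    have hpq : p ∣ q := dvd_pow_self p hm.ne'
    rw [h6, hp.dvd_mul, hp.dvd_mul] at h
    rcases h with h | h | h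
    · exact not_dvd_pow_sub_one hp hpq hq0 (by norm_num) h
    · exact not_dvd_pow_sub_one hp hpq hq0 (by norm_num) h
    · have h7 : p ∣ q ^ 8 + q ^ 4 := dvd_add (dvd_pow hpq (by norm_num)) (dvd_pow hpq (by norm_num))
      exact hp.one_lt.ne' (Nat.dvd_one.1 ((Nat.dvd_add_right h7).1 h))
  let U : Sylow p (twistedD4 K q) := hUp.toSylow hindex
  have hU : ∀ y : twistedD4 K q, y ∈ U ↔ y.1 ∈ chevD4.posUnipotent K := fun y => Iff.rfl
  have hr : 0 < chevD4.rank := by decide
  refine ocSetP_of hp hp2 U (B := (chevD4.borelSubgroup K).subgroupOf (twistedD4 K q))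
    (R := {y | Reg inList y.1}) ?_ ?_ ?_ ?_ ?_ ?_ ?_ (a := q ^ 4) (b := 1) hodd.pow odd_one ?_
  · intro y hy
    exact (hU y).2 hy.1
  · intro h
    obtain ⟨t, ht, h1⟩ := h.2 0 hr
    exact ht (comp_unique inList hr h1 (comp_one inList 0))
  · intro y hy g hg
    exact mem_borel_of_conj inList hy (twisted_le q g.2) (Subgroup.mem_sup_left ((hU _).1 hg))
  · intro b hb u hu
    exact (hU _).2 (conj_mem_pos inList hb ((hU _).1 hu))
  · intro b hb y hy
    exact Reg.conj hy hb
  · intro y hy hyR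
    obtain ⟨a, b, c, d, e, f, ha, he, hf, hy'⟩ := (mem_U_inf_iff hK3 hφ hle y.1).1
      ⟨(hU y).1 hy, y.2⟩
    have hyR' : ¬ Reg inList y.1 := hyR
    rw [hy', reg_elt, not_and_or, not_not, not_not] at hyR'
    rcases hyR' with h0 | h0
    · refine ⟨⟨na K, na_mem hφ⟩, na_not_mem hφ, (hU _).2 ?_⟩
      show (na K)⁻¹ * y.1 * na K ∈ _
      rw [hy', h0]
      exact tail_le_U (na_inv_RS K (l := ordA.tail) (l' := ordA.tail) (by decide +kernel)
        (elt_a_zero b c d e f))
    · refine ⟨⟨nb K, nb_mem hφ⟩, nb_not_mem hφ, (hU _).2 ?_⟩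
      show (nb K)⁻¹ * y.1 * nb K ∈ _
      rw [hy', h0]
      exact drop_le_U (nb_inv_RS K (l := ordB.drop 3) (l' := ordB.drop 3) (by decide +kernel)
        (elt_b_zero a c d e f))
  · intro y hy
    exact odd_centralizer hKodd inList (twisted_le q) y.2 hy
  · -- the number of regular elements
    have hcardR : Nat.card ({y | Reg inList y.1} : Set (twistedD4 K q)) =
        (q - 1) * (q ^ 3 - 1) * q ^ 8 := by
      let f : ({a : K // φ a = a ∧ a ≠ 0} × {a : K // φ a = a} × {a : K // φ a = a}) ×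
          ({b : K // b ≠ 0} × K × K) → ({y | Reg inList y.1} : Set (twistedD4 K q)) := fun x =>
        ⟨⟨elt φ x.1.1 x.2.1 x.2.2.1 x.2.2.2 x.1.2.1 x.1.2.2,
          ((mem_U_inf_iff hK3 hφ hle _).2 ⟨_, _, _, _, _, _, x.1.1.2.1, x.1.2.1.2, x.1.2.2.2,
            rfl⟩).2⟩, (reg_elt _ _ _ _ _ _).2 ⟨x.1.1.2.2, x.2.1.2⟩⟩
      have hf : Function.Bijective f := by
        constructor
        · rintro ⟨⟨a, e, f⟩, b, c, d⟩ ⟨⟨a', e', f'⟩, b', c', d'⟩ h
          obtain ⟨h1, h2, h3, h4, h5, h6⟩ := elt_inj (congrArg (fun y => y.1.1) h)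
          simp only at h1 h2 h3 h4 h5 h6
          rw [Subtype.ext h1, Subtype.ext h5, Subtype.ext h6, Subtype.ext h2, h3, h4]
        · rintro ⟨y, hy⟩
          obtain ⟨a, b, c, d, e, f, ha, he, hf, hy'⟩ := (mem_U_inf_iff hK3 hφ hle y.1).1
            ⟨hy.1, y.2⟩
          have hy2 : Reg inList y.1 := hy
          rw [hy', reg_elt] at hy2
          refine ⟨((⟨a, ha, hy2.1⟩, ⟨e, he⟩, ⟨f, hf⟩), ⟨b, hy2.2⟩, c, d), ?_⟩
          exact Subtype.ext (Subtype.ext hy'.symm)
      rw [← Nat.card_congr (Equiv.ofBijective f hf)]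
      have c1 : Nat.card {a : K // φ a = a ∧ a ≠ 0} = q - 1 := by
        have h1 : Nat.card {a : K // φ a = a} = Nat.card {a : K // φ a = a ∧ a ≠ 0} + 1 := by
          let g : {a : K // φ a = a} ≃ Option {a : K // φ a = a ∧ a ≠ 0} :=
            { toFun := fun a => if h : (a : K) = 0 then none else some ⟨a, a.2, h⟩
              invFun := fun o => match o with
                | none => ⟨0, map_zero φ⟩
                | some b => ⟨b.1, b.2.1⟩
              left_inv := by
                rintro ⟨a, ha⟩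
                by_cases h : a = 0
                · subst h; simp
                · simp [h]
              right_inv := by
                rintro (_ | ⟨b, hb⟩)
                · simp
                · simp [hb.2] }
          rw [Nat.card_congr g, Finite.card_option]
        rw [hfixc] at h1
        omega
      have c2 : Nat.card {b : K // b ≠ 0} = q ^ 3 - 1 := by
        rw [← hK, ← Nat.card_eq_fintype_card, ← Nat.card_units]
        exact Nat.card_congr unitsEquivNeZero.symm
      simp only [Nat.card_prod]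
      rw [c1, c2, hfixc, Nat.card_eq_fintype_card, hK]
      ring
    -- the order of the Borel subgroup
    have hcardB : Nat.card ((chevD4.borelSubgroup K).subgroupOf (twistedD4 K q)) =
        q ^ 12 * ((q - 1) ^ 2 * (q ^ 2 + q + 1)) := by
      rw [← hcardU, ← hcardH, ← Nat.card_prod]
      let f : ((chevD4.posUnipotent K).subgroupOf (twistedD4 K q)) ×
          ((chevD4.diagonalSubgroup K).subgroupOf (twistedD4 K q)) →
          ((chevD4.borelSubgroup K).subgroupOf (twistedD4 K q)) := fun x =>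
        ⟨x.1.1 * x.2.1, mul_mem (Subgroup.mem_sup_left (show x.1.1.1 ∈ _ from x.1.2))
          (Subgroup.mem_sup_right (show x.2.1.1 ∈ _ from x.2.2))⟩
      refine (Nat.card_congr (Equiv.ofBijective f ⟨?_, ?_⟩)).symm
      · rintro ⟨⟨u, hu⟩, ⟨h, hh⟩⟩ ⟨⟨u', hu'⟩, ⟨h', hh'⟩⟩ e
        have e1 : u * h = u' * h' := congrArg Subtype.val e
        have e2 : u'⁻¹ * u = h' * h⁻¹ := by
          rw [inv_mul_eq_iff_eq_mul, ← mul_assoc, ← e1, mul_inv_cancel_right]
        have e3 : (u'⁻¹ * u).1 ∈ chevD4.posUnipotent K ⊓ chevD4.diagonalSubgroup K := by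
          refine Subgroup.mem_inf.2 ⟨mul_mem (inv_mem hu') hu, ?_⟩
          rw [e2]
          exact mul_mem hh' (inv_mem hh)
        rw [(Cfsg.Agent.S1036.result (F := K) chevD4 inList).2, Subgroup.mem_bot] at e3
        have e4 : u = u' := (inv_mul_eq_one.1 (Subtype.ext e3)).symm
        subst e4
        have e5 : h = h' := mul_left_cancel e1
        subst e5
        rfl
      · rintro ⟨b, hb⟩
        obtain ⟨u, hu, huG, h, hh, hhG, e⟩ :=
          ((tdata hφ hle).mem_B_iff (b : GL chevD4.Idx K) b.2).1 hb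
        exact ⟨⟨⟨⟨u, huG⟩, hu⟩, ⟨⟨h, hhG⟩, hh⟩⟩, Subtype.ext (Subtype.ext e.symm)⟩
    rw [hcardR, hcardB]
    have hq1 : q ^ 3 - 1 = (q - 1) * (q ^ 2 + q + 1) := by
      obtain ⟨k, hk⟩ : ∃ k, q = k + 1 := ⟨q - 1, (Nat.sub_add_cancel hq.one_lt.le).symm⟩
      rw [hk, Nat.add_sub_cancel]
      apply Nat.sub_eq_of_eq_add
      ring
    rw [hq1]
    ring

end ThreeD

end Cfsg.Agent.H494.R4

namespace Cfsg.Agent.H494.R4

open Matrix Cfsg Subgroup Cfsg.Agent.H610 Cfsg.Agent.H610.OddOC Cfsg.Agent.H610.OddMat Cfsg.Agent.H610.OddThree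

section SL

variable {F : Type*} [Field F] [Finite F]

/-- `PSL(3, q)`, `q` odd. -/
theorem pslP {p : ℕ} [hp : CharP F p] (h2 : (2 : F) ≠ 0) :
    OcAt p (Matrix.ProjectiveSpecialLinearGroup (Fin 3) F) := by
  classical
  have hpp : p.Prime := (CharP.char_is_prime_or_zero F p).resolve_right (CharP.char_ne_zero_of_finite F p)
  have hp2 : p ≠ 2 := by
    rintro rfl
    exact h2 (by exact_mod_cast CharP.cast_eq_zero F 2)
  obtain ⟨c, hc⟩ : ∃ c : F, 2 * c = 1 := ⟨1 / 2, by field_simp⟩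
  let u : Matrix.SpecialLinearGroup (Fin 3) F := ⟨TableL3.uU c, by
    rw [Matrix.det_fin_three]; simp [TableL3.uU]⟩
  let k : Matrix.SpecialLinearGroup (Fin 3) F := ⟨!![-1, 0, 0; 0, 1, 0; 0, 0, -1], by
    rw [Matrix.det_fin_three]; simp⟩
  refine ocAt_of_matrix (F := F) (Γ := GL (Fin 3) F) Matrix.SpecialLinearGroup.toGL
    (Units.coeHom _) ?_ Units.val_injective hpp hp2 ?_ ?_ ?_ ?_ ?_ ?_ (s₀ := u) (k₀ := k)
    (n₀ := !![0, 1, c; 0, 0, 1; 0, 0, 0]) ?_ ?_ ?_ ?_
  · intro a b hab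
    exact Subtype.ext (congrArg Units.val hab)
  · intro s
    exact s.2
  · intro γ hγ
    exact ⟨⟨γ.1, hγ⟩, Units.ext rfl⟩
  · intro γ
    have hd : (Units.coeHom _ γ : Matrix (Fin 3) (Fin 3) F).det ≠ 0 := by
      have := (Matrix.isUnit_iff_isUnit_det _).1 γ.isUnit
      exact this.ne_zero
    refine ⟨Matrix.GeneralLinearGroup.mkOfDetNeZero
      ((Units.coeHom _ γ : Matrix (Fin 3) (Fin 3) F).det • 1) ?_, rfl⟩
    rw [det_smul, det_one, mul_one]
    exact pow_ne_zero _ hd
  · intro z hz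
    obtain ⟨r, -, hr⟩ := Matrix.SpecialLinearGroup.mem_center_iff.1 hz
    refine ⟨r, ?_⟩
    show z.1 = r • 1
    rw [← hr, Matrix.scalar_apply, Matrix.smul_one_eq_diagonal]
  · intro s s' n n' _ _ hn hn2 hn' hn2'
    obtain ⟨v, hv⟩ := OddMat.exists_ne hn2
    obtain ⟨v', hv'⟩ := OddMat.exists_ne hn2'
    obtain ⟨γ, hd, hγ, -⟩ := exists_conj_aux hn hn' hv hv'
    exact ⟨Matrix.GeneralLinearGroup.mkOfDetNeZero γ hd, hγ⟩
  · intro s n _ hn
    obtain ⟨z, φ, hz, hφ, hφz⟩ := exists_pair hn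
    exact ⟨z, φ, hz, hφ, hφz, ⟨invo z φ, invo_det hφz⟩, rfl⟩
  · show TableL3.uU c = _
    ext i j
    (revert i j; simp only [TableL3.uU, _root_.Fin.forall_fin_succ, _root_.Matrix.of_apply, _root_.Matrix.cons_val', _root_.Matrix.cons_val_fin_one, _root_.Matrix.add_apply, Fin.isValue, _root_.Matrix.cons_val_zero, _root_.Matrix.cons_val_succ, _root_.IsEmpty.forall_iff, _root_.and_true, _root_.Matrix.one_apply_eq, _root_.add_zero, Nat.reduceAdd, _root_.Fin.succ_zero_eq_one, _root_.ne_eq, _root_.zero_ne_one, _root_.not_false_eq_true, _root_.Matrix.one_apply_ne, _root_.zero_add, _root_.Fin.succ_one_eq_two, Fin.reduceEq, _root_.and_self, _root_.Fin.succ_ne_zero, _root_.true_and])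
  · rw [pow_succ, pow_two]
    ext i j
    (revert i j; simp only [Matrix.mul_apply, Fin.sum_univ_three, _root_.Fin.forall_fin_succ, _root_.Matrix.cons_mul, _root_.Nat.succ_eq_add_one, Nat.reduceAdd, _root_.Matrix.vecMul_cons, _root_.Matrix.head_cons, _root_.zero_smul, _root_.Matrix.tail_cons, _root_.one_smul, _root_.Matrix.smul_cons, _root_.smul_eq_mul, _root_.MulZeroClass.mul_zero, _root_.Matrix.smul_empty, _root_.Matrix.empty_vecMul, _root_.add_zero, _root_.Matrix.add_cons, _root_.Matrix.empty_add_empty, _root_.zero_add, _root_.Matrix.empty_mul, _root_.Equiv.symm_apply_apply, _root_.Matrix.of_apply, _root_.Matrix.cons_val', _root_.Pi.zero_apply, _root_.Matrix.cons_val_fin_one, Fin.isValue, _root_.Matrix.cons_val_zero, _root_.Matrix.cons_val_one, _root_.Matrix.cons_val, _root_.Matrix.zero_apply, _root_.Matrix.cons_val_succ, _root_.mul_one, _root_.forall_const, _root_.true_and, _root_.MulZeroClass.zero_mul, _root_.and_self, _root_.implies_true])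
  · intro h
    have := congrFun (congrFun h 0) 2
    rw [pow_two, Matrix.mul_apply, Fin.sum_univ_three] at this
    simp at this
  · rw [mul_inv_eq_iff_eq_mul, eq_inv_mul_iff_mul_eq]
    apply Subtype.ext
    show TableL3.uU c * ((!![-1, 0, 0; 0, 1, 0; 0, 0, -1] : Matrix (Fin 3) (Fin 3) F) *
      TableL3.uU c) = !![-1, 0, 0; 0, 1, 0; 0, 0, -1]
    ext i j
    (revert i j; simp only [TableL3.uU, Matrix.mul_apply, Fin.sum_univ_three, _root_.Fin.forall_fin_succ, _root_.Matrix.cons_mul, _root_.Nat.succ_eq_add_one, Nat.reduceAdd, _root_.Matrix.vecMul_cons, _root_.Matrix.head_cons, _root_.neg_smul, _root_.one_smul, _root_.Matrix.neg_cons, _root_.Matrix.neg_empty, _root_.Matrix.tail_cons, _root_.zero_smul, _root_.Matrix.empty_vecMul, _root_.add_zero, _root_.zero_add, _root_.neg_zero, _root_.Matrix.empty_mul, _root_.Equiv.symm_apply_apply, _root_.Matrix.of_apply, _root_.Matrix.cons_val', _root_.Matrix.cons_val_fin_one, Fin.isValue, _root_.Matrix.cons_val_zero,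 _root_.Matrix.cons_val_one, _root_.Matrix.cons_val, _root_.mul_neg, _root_.mul_one, _root_.MulZeroClass.mul_zero, _root_.Matrix.cons_val_succ, _root_.forall_const, _root_.neg_add_cancel, _root_.one_mul, _root_.add_eq_right, _root_.neg_eq_zero, _root_.MulZeroClass.zero_mul, _root_.add_neg_cancel, _root_.implies_true, _root_.and_true, _root_.true_and]) <;> (repeat' with_reducible apply And.intro)
    linear_combination -hc

end SL

section SU

variable {F : Type*} [Field F] [Fintype F]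

/-- `PSU(3, q)`, `q` odd. -/
theorem psuP {p : ℕ} [hp : CharP F p] {q : ℕ} (hF : Fintype.card F = q ^ 2) (h2 : (2 : F) ≠ 0) :
    OcAt p (PSU 3 F q) := by
  classical
  have hpp : p.Prime := (CharP.char_is_prime_or_zero F p).resolve_right (CharP.char_ne_zero_of_finite F p)
  have hp2 : p ≠ 2 := by
    rintro rfl
    exact h2 (by exact_mod_cast CharP.cast_eq_zero F 2)
  obtain ⟨σ, hσ⟩ := ClassicalGeometry.GUBasic.exists_powHom hF
  have hq := ClassicalGeometry.GUBasic.two_le hF
  have hq0 : q ≠ 0 := by omega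
  have hσσ : ∀ x, σ (σ x) = x := by
    intro x
    rw [hσ, hσ, ← pow_mul, ← pow_two, ← hF, FiniteField.pow_card]
  have hN : ∀ a, σ a = a → ∃ x, x * σ x = a := by
    intro a ha
    rw [hσ] at ha
    obtain ⟨x, hx⟩ := LieClassical.HermBasic.exists_norm_eq hF ha
    exact ⟨x, by rw [hσ, hx]⟩
  obtain ⟨c, hc⟩ : ∃ c : F, 2 * c = 1 := ⟨1 / 2, by field_simp⟩
  obtain ⟨x, hx⟩ := TableL3.exists_norm_neg_one hF h2
  have hx0 : x ≠ 0 := by
    rintro rfl
    rw [zero_pow (Nat.succ_ne_zero q)] at hx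
    have : (2 : F) = 0 := by linear_combination 2 * hx
    exact h2 this
  obtain ⟨y, hy⟩ : ∃ y : F, x * y = 1 := ⟨x⁻¹, mul_inv_cancel₀ hx0⟩
  have hσx : σ x = -y := by
    have h1 : x * σ x = -1 := by rw [hσ, ← pow_succ', hx]
    linear_combination (-σ x) * hy + y * h1
  have hσy : σ y = -x := by
    have h1 : σ x * σ y = 1 := by rw [← map_mul, hy, map_one]
    rw [hσx] at h1
    linear_combination (-σ y) * hy - x * h1
  have hσc : σ c = c := by
    have h1 : 2 * σ c = 1 := by
      have := congrArg σ hc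
      rwa [map_mul, map_one, map_ofNat] at this
    linear_combination (-σ c) * hc + c * h1
  have hσ3 : σ 3 = 3 := map_ofNat σ 3
  have hc' : c = 1 / 2 := by
    rw [eq_div_iff h2]
    linear_combination hc
  have hy' : y = 1 / x := by
    rw [eq_div_iff hx0]
    linear_combination hy
  let u0 : Matrix.SpecialLinearGroup (Fin 3) F := ⟨TableL3.uS c x y, by
    rw [Matrix.det_fin_three]
    simp only [TableL3.uS, of_apply, cons_val', cons_val_zero, cons_val_one, cons_val_two,
      cons_val_fin_one, tail_cons, head_cons, head_fin_const]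
    simp only [_root_.mul_one, _root_.mul_neg, _root_.neg_mul, _root_.neg_neg, _root_.sub_neg_eq_add, _root_.one_mul]
    rw [hc', hy']
    field_simp
    ring⟩
  have hu0 : u0 ∈ SU 3 F q := by
    refine TableL3.mem_SU_three σ hσ _ ?_
    intro i j
    (revert i j; simp only [u0, TableL3.uS, hσx, hσy, hσc, hσ3, _root_.Fin.forall_fin_succ, Fin.isValue, _root_.Matrix.of_apply, _root_.Matrix.cons_val', _root_.Matrix.cons_val_fin_one, _root_.Matrix.cons_val_zero, _root_.Matrix.cons_val_one, _root_.Matrix.cons_val, _root_.map_neg, _root_.map_mul, _root_.mul_neg, _root_.neg_neg, _root_.map_one, _root_.mul_one, _root_.Matrix.cons_val_succ, _root_.Fin.succ_zero_eq_one, _root_.Fin.succ_one_eq_two, _root_.IsEmpty.forall_iff, _root_.and_true, _root_.neg_mul, ↓reduceIte, _root_.add_eq_right, _root_.one_mul, _root_.zero_ne_one, Fin.reduceEq, _root_.Fin.succ_ne_zero]) <;> (repeat' with_reducible apply And.intro) <;>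
      (try rw [hc']) <;> (try rw [hy']) <;> field_simp <;> ring
  let k0 : Matrix.SpecialLinearGroup (Fin 3) F := ⟨!![-1, 0, 0; 0, -1, 0; 0, 0, 1], by
    rw [Matrix.det_fin_three]; simp⟩
  have hk0 : k0 ∈ SU 3 F q := by
    refine TableL3.mem_SU_three σ hσ _ ?_
    intro i j
    (revert i j; simp only [k0, _root_.Fin.forall_fin_succ, Fin.isValue, _root_.Matrix.of_apply, _root_.Matrix.cons_val', _root_.Matrix.cons_val_fin_one, _root_.Matrix.cons_val_zero, _root_.Matrix.cons_val_one, _root_.Matrix.cons_val, _root_.map_neg, _root_.map_one, _root_.mul_neg, _root_.mul_one, _root_.map_zero, _root_.MulZeroClass.mul_zero, _root_.add_zero, _root_.Matrix.cons_val_succ, _root_.zero_add, _root_.Fin.succ_zero_eq_one, _root_.Fin.succ_one_eq_two, _root_.IsEmpty.forall_iff, _root_.and_true, _root_.neg_neg, ↓reduceIte, _root_.neg_zero, _root_.zero_ne_one, Fin.reduceEq, _root_.and_self, _root_.Fin.succ_ne_zero, _root_.neg_eq_zero, _root_.right_eq_ite_iff, _root_.imp_false,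 _root_.left_eq_ite_iff, _root_.one_ne_zero, _root_.Decidable.not_not, _root_.true_and, _root_.not_false_eq_true])
  let u : SU 3 F q := ⟨u0, hu0⟩
  let k : SU 3 F q := ⟨k0, hk0⟩
  have hN3 : (TableL3.uS c x y - 1) ^ 3 = 0 := by
    rw [pow_succ, pow_two]
    (refine And.elim (fun cj1 => And.elim fun cj2 => And.elim fun cj3 => And.elim fun cj4 => And.elim fun cj5 => And.elim fun cj6 => And.elim fun cj7 => And.elim fun cj8 cj9 => by ext i j; fin_cases i <;> fin_cases j; exacts [cj1, cj2, cj3, cj4, cj5, cj6, cj7, cj8, cj9]) ?_; simp only [TableL3.uS, Matrix.mul_apply, Fin.sum_univ_three, _root_.Fin.zero_eta, _root_.Fin.isValue, _root_.Matrix.sub_apply, _root_.Matrix.of_apply, _root_.Matrix.cons_val', _root_.Matrix.cons_val_fin_one, _root_.Matrix.cons_val_zero, _root_.Matrix.one_apply_eq, _root_.Matrix.cons_val_one, _root_.ne_eq, _root_.zero_ne_one, _root_.not_false_eq_true, _root_.Matrix.one_apply_ne, _root_.sub_zero, _root_.Matrix.cons_val, _root_.Fin.reduceEq,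 _root_.neg_mul, _root_.one_mul, _root_.neg_sub, _root_.one_ne_zero, _root_.mul_neg, _root_.zero_sub, _root_.sub_neg_eq_add, _root_.zero_add, _root_.mul_one, _root_.sub_self, _root_.add_zero, _root_.Matrix.zero_apply, _root_.Fin.mk_one, _root_.Fin.reduceFinMk, _root_.neg_add_rev, _root_.neg_neg, _root_.MulZeroClass.mul_zero, _root_.neg_zero, _root_.MulZeroClass.zero_mul, and_self, and_true, true_and] <;> and_intros <;> (try rw [hc']) <;> (try rw [hy']) <;> field_simp <;> ring)
  have hGUfin : Finite (GU 3 F q) := inferInstance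
  refine ocAt_of_matrix (F := F) (Γ := GU 3 F q) (suToGU q) (guM q) ?_ ?_ hpp hp2 ?_ ?_ ?_ ?_ ?_ ?_
    (s₀ := u) (k₀ := k) (n₀ := TableL3.uS c x y - 1) ?_ hN3 ?_ ?_
  · intro a b hab
    have h1 : a.1.1 = b.1.1 := congrArg (fun g : GU 3 F q => g.1.1) hab
    exact Subtype.ext (Subtype.ext h1)
  · intro a b hab
    exact Subtype.ext (Units.ext hab)
  · intro s
    exact s.1.2
  · intro γ hγ
    refine ⟨⟨⟨γ.1.1, hγ⟩, ?_⟩, Subtype.ext (Units.ext rfl)⟩
    exact γ.2
  · intro γ
    have hd : (guM q γ).det ≠ 0 := by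
      have := (Matrix.isUnit_iff_isUnit_det _).1 γ.1.isUnit
      exact this.ne_zero
    have hd1 : (guM q γ).det ^ (q + 1) = 1 :=
      ClassicalGeometry.GUBasic.det_pow hF ((ClassicalGeometry.GUBasic.mem_GU_iff γ.1).1 γ.2)
    refine ⟨⟨Matrix.GeneralLinearGroup.mkOfDetNeZero ((guM q γ).det • 1) ?_, ?_⟩, rfl⟩
    · rw [det_smul, det_one, mul_one]
      exact pow_ne_zero _ hd
    · refine mem_GU hσ ?_
      show ((guM q γ).det • (1 : Matrix (Fin 3) (Fin 3) F))ᵀ *
        ((guM q γ).det • (1 : Matrix (Fin 3) (Fin 3) F)).map σ = 1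
      have e : ((guM q γ).det • (1 : Matrix (Fin 3) (Fin 3) F)).map σ =
          ((guM q γ).det ^ q) • (1 : Matrix (Fin 3) (Fin 3) F) := by
        ext i j
        by_cases hij : i = j
        · subst hij; simp [hσ]
        · simp [hij]
      rw [e, transpose_smul, transpose_one, smul_mul_smul_comm, mul_one, ← pow_succ', hd1, one_smul]
  · intro z hz
    obtain ⟨r, _, _, hr⟩ := (LieClassical.SUBasic.mem_center_SU_iff hF le_rfl z).1 hz
    refine ⟨r, ?_⟩
    show z.1.1 = r • 1
    rw [hr, LieClassical.SUBasic.coe_suScalar, Matrix.smul_one_eq_diagonal]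
  · intro s s' n n' hs hs' hn hn2 hn' hn2'
    have h1 : (1 + n)ᵀ * (1 + n).map σ = 1 := by
      rw [← hs]
      exact of_mem hq0 hσ (suToGU q s).2
    have h1' : (1 + n')ᵀ * (1 + n').map σ = 1 := by
      rw [← hs']
      exact of_mem hq0 hσ (suToGU q s').2
    obtain ⟨γ, hd, hγ, hγu⟩ := exists_conj_unitary hσσ h2 hN hn hn2 h1 hn' hn2' h1'
    exact ⟨⟨Matrix.GeneralLinearGroup.mkOfDetNeZero γ hd, mem_GU hσ hγu⟩, hγ⟩
  · intro s n hs hn
    have h1 : (1 + n)ᵀ * (1 + n).map σ = 1 := by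
      rw [← hs]
      exact of_mem hq0 hσ (suToGU q s).2
    obtain ⟨z, φ, hz, hφ, hφz, hi⟩ := exists_invo_unitary hσσ h2 hn h1
    refine ⟨z, φ, hz, hφ, hφz, ⟨⟨invo z φ, invo_det hφz⟩, ?_⟩, rfl⟩
    exact mem_GU (A := Matrix.SpecialLinearGroup.toGL ⟨invo z φ, invo_det hφz⟩) hσ hi
  · show TableL3.uS c x y = 1 + (TableL3.uS c x y - 1)
    abel
  · intro h
    have h1 := congrFun (congrFun h 0) 0
    rw [pow_two, Matrix.mul_apply, Fin.sum_univ_three] at h1
    simp only [TableL3.uS, _root_.Fin.isValue, _root_.Matrix.sub_apply, _root_.Matrix.of_apply, _root_.Matrix.cons_val', _root_.Matrix.cons_val_zero, _root_.Matrix.cons_val_fin_one, _root_.Matrix.one_apply_eq, _root_.Matrix.cons_val_one, _root_.ne_eq, _root_.zero_ne_one, _root_.not_false_eq_true, _root_.Matrix.one_apply_ne, _root_.sub_zero, _root_.one_ne_zero, _root_.mul_neg, _root_.Matrix.cons_val, _root_.Fin.reduceEq, _root_.mul_one, _root_.Matrix.zero_apply] at h1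
    have h3 : (1 : F) = 0 := by linear_combination (-1) * h1 + c ^ 2 * (-1) * hy - hc
    exact one_ne_zero h3
  · rw [mul_inv_eq_iff_eq_mul, eq_inv_mul_iff_mul_eq]
    apply Subtype.ext
    apply Subtype.ext
    show TableL3.uS c x y * ((!![-1, 0, 0; 0, -1, 0; 0, 0, 1] : Matrix (Fin 3) (Fin 3) F) *
      TableL3.uS c x y) = !![-1, 0, 0; 0, -1, 0; 0, 0, 1]
    (refine And.elim (fun cj1 => And.elim fun cj2 => And.elim fun cj3 => And.elim fun cj4 => And.elim fun cj5 => And.elim fun cj6 => And.elim fun cj7 => And.elim fun cj8 cj9 => by ext i j; fin_cases i <;> fin_cases j; exacts [cj1, cj2, cj3, cj4, cj5, cj6, cj7, cj8, cj9]) ?_; simp only [TableL3.uS, Matrix.mul_apply, Fin.sum_univ_three, _root_.Matrix.cons_mul, _root_.Nat.succ_eq_add_one, _root_.Nat.reduceAdd, _root_.Matrix.vecMul_cons, _root_.Matrix.head_cons, _root_.neg_smul, _root_.one_smul, _root_.Matrix.neg_cons, _root_.neg_neg, _root_.Matrix.neg_empty, _root_.Matrix.tail_cons, _root_.zero_smul, _root_.Matrix.empty_vecMul,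 _root_.add_zero, _root_.zero_add, _root_.Matrix.empty_mul, _root_.Equiv.symm_apply_apply, _root_.Fin.zero_eta, _root_.Fin.isValue, _root_.Matrix.of_apply, _root_.Matrix.cons_val', _root_.Matrix.cons_val_fin_one, _root_.Matrix.cons_val_zero, _root_.mul_neg, _root_.Matrix.cons_val_one, _root_.Matrix.cons_val, _root_.mul_one, _root_.add_eq_right, _root_.Fin.mk_one, _root_.neg_mul, _root_.one_mul, _root_.Fin.reduceFinMk, and_self, and_true, true_and] <;> and_intros)
    all_goals (try rw [hc']) <;> (try rw [hy']) <;> field_simp <;> ring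

end SU

end Cfsg.Agent.H494.R4
end

-- part: H494/R4/Ree
section
/-!
# The small Ree groups: a second odd degree (helper494, S4554)
-/

set_option autoImplicit false
set_option linter.unusedSectionVars false

namespace Cfsg.Agent.H494.R4

open Cfsg Cfsg.Agent.Characters
open Cfsg.Agent.H727.Orth Cfsg.Agent.H619.R4

universe u

/-- a `p`-subgroup is contained in a normal subgroup of index prime to `p` -/
theorem le_of_odd_index {A : Type*} [Group A] [Finite A] (N T : Subgroup A) [N.Normal] (hT : IsPGroup 2 T)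
    (hN : Odd N.index) : T ≤ N := by
  intro a ha
  obtain ⟨k, hk⟩ := hT ⟨a, ha⟩
  have hk' : a ^ 2 ^ k = 1 := congrArg Subtype.val hk
  have h1 : orderOf (QuotientGroup.mk a : A ⧸ N) ∣ 2 ^ k := by
    apply orderOf_dvd_of_pow_eq_one
    rw [← QuotientGroup.mk_pow, hk', QuotientGroup.mk_one]
  have h2 : orderOf (QuotientGroup.mk a : A ⧸ N) ∣ N.index := orderOf_dvd_natCard _
  have h3 : Nat.Coprime (2 ^ k) N.index := (Nat.coprime_two_left.2 hN).pow_left k
  have h4 := Nat.eq_one_of_dvd_coprimes h3 h1 h2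
  rw [orderOf_eq_one_iff] at h4
  exact (QuotientGroup.eq_one_iff _).1 h4

/-- a real unipotent element inverted by an involution of the Borel subgroup -/
theorem exists_real {S : Type u} [Group S] [Finite S] [IsSimpleGroup S] (hna : ∃ a b : S, a * b ≠ b * a)
    {r : ℕ} [hr : Fact r.Prime] (hr2 : r ≠ 2) (hS : IsLieTypeChar r S) (P : Sylow r S) {t : S} (ht1 : t ≠ 1) (ht : t * t = 1)
    (htP : ∀ u ∈ P, t * u * t⁻¹ ∈ P) : ∃ x : S, x ≠ 1 ∧ (∃ k, x ^ r ^ k = 1) ∧ IsConj x x⁻¹ := by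
  have h1 : ∃ v ∈ P, t * v ≠ v * t := by
    by_contra hcon
    push Not at hcon
    apply ht1
    refine H949.LieDZ.regular_centralizer hna hS P (y := t) ?_ ?_
    · rw [Subgroup.mem_centralizer_iff]
      intro h hh
      exact (hcon h hh).symm
    · intro h
      have h2 : orderOf t ∣ 2 := orderOf_dvd_of_pow_eq_one (by rw [sq, ht])
      exact hr2 ((Nat.prime_dvd_prime_iff_eq hr.out Nat.prime_two).1 (h.trans h2))
  obtain ⟨v, hv, hne⟩ := h1
  have hx : v⁻¹ * (t * v * t⁻¹) ∈ P := P.mul_mem (P.inv_mem hv) (htP v hv)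
  refine ⟨v⁻¹ * (t * v * t⁻¹), ?_, ?_, ?_⟩
  · intro h
    apply hne
    have h2 := inv_mul_eq_one.1 h
    rw [eq_mul_inv_iff_mul_eq] at h2
    exact h2.symm
  · obtain ⟨k, hk⟩ := P.isPGroup' ⟨_, hx⟩
    exact ⟨k, congrArg Subtype.val hk⟩
  · refine isConj_iff.2 ⟨t, ?_⟩
    have h2 : t⁻¹ = t := inv_eq_of_mul_eq_one_left ht
    calc t * (v⁻¹ * (t * v * t⁻¹)) * t⁻¹ = t * v⁻¹ * t * v * (t⁻¹ * t⁻¹) := by group
      _ = t * v⁻¹ * t * v := by rw [h2, ht, mul_one]
      _ = t * v⁻¹ * t⁻¹ * v := by rw [h2]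
      _ = (v⁻¹ * (t * v * t⁻¹))⁻¹ := by group

/-- the index of the inner automorphisms is an isomorphism invariant -/
theorem index_conj {S S' : Type*} [Group S] [Group S'] (e : S ≃* S') :
    (MulAut.conj : S →* MulAut S).range.index = (MulAut.conj : S' →* MulAut S').range.index := by
  have h1 : (MulAut.conj : S →* MulAut S).range.map (MulAut.congr e).toMonoidHom =
      (MulAut.conj : S' →* MulAut S').range := by
    have key : ∀ s : S, (MulAut.congr e) (MulAut.conj s) = MulAut.conj (e s) := by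
      intro s
      ext x
      show e (s * e.symm x * s⁻¹) = e s * x * (e s)⁻¹
      rw [map_mul, map_mul, map_inv, e.apply_symm_apply]
    ext a
    constructor
    · rintro ⟨_, ⟨s, rfl⟩, rfl⟩
      exact ⟨e s, (key s).symm⟩
    · rintro ⟨s, rfl⟩
      refine ⟨MulAut.conj (e.symm s), ⟨_, rfl⟩, ?_⟩
      have := key (e.symm s)
      rwa [e.apply_symm_apply] at this
  rw [← h1]
  exact (Subgroup.index_map_equiv _ (MulAut.congr e)).symm

theorem ree_real {K : Type} [Field K] [Fintype K] {m : ℕ} (hm : 1 ≤ m)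
    (hK : Fintype.card K = 3 ^ (2 * m + 1)) : ∃ x : ↥(Cfsg.Lie.twistedG2 K (3 ^ m)), x ≠ 1 ∧
      (∃ k, x ^ 3 ^ k = 1) ∧ IsConj x x⁻¹ := by
  classical
  obtain ⟨hsimp, hc, -⟩ := H610.TableRee.isJR hm hK
  have hna : ∃ a b : ↥(Cfsg.Lie.twistedG2 K (3 ^ m)), a * b ≠ b * a := by
    by_contra hcon
    push Not at hcon
    exact hc ⟨⟨hcon⟩⟩
  have hS : IsLieTypeChar 3 ↥(Cfsg.Lie.twistedG2 K (3 ^ m)) :=
    Or.inr (Or.inr (Or.inr (Or.inr (Or.inr (Or.inr (Or.inr (Or.inr (Or.inr (Or.inr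
      ⟨rfl, K, inferInstance, inferInstance, m, hm, hK, ⟨MulEquiv.refl _⟩⟩)))))))))
  have : Fact (Nat.Prime 3) := ⟨Nat.prime_three⟩
  obtain ⟨a, haH, ha1, ha2⟩ := Cfsg.Agent.S1157.exists_involution hK
  obtain ⟨⟨e⟩, -⟩ := Cfsg.Agent.S1152.result hK a haH ha1 ha2
  -- an element of order three commuting with `a`
  obtain ⟨y, hy⟩ : ∃ y : Subgroup.centralizer {a}, orderOf y = 3 := by
    apply exists_prime_orderOf_dvd_card'
    rw [Nat.card_congr e.toEquiv, Nat.card_prod]
    apply Dvd.dvd.mul_left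
    exact Cfsg.Agent.ThreePrime.OrderThree.three_dvd_card_psl K
  obtain ⟨y, hyc⟩ := y
  rw [Subgroup.orderOf_mk] at hy
  have hy1 : y ≠ 1 := by
    rintro rfl
    rw [orderOf_one] at hy
    exact absurd hy (by norm_num)
  have hyp : IsPGroup 3 (Subgroup.zpowers y) := by
    refine IsPGroup.of_card (n := 1) ?_
    rw [Nat.card_zpowers, hy, pow_one]
  obtain ⟨P, hP⟩ := hyp.exists_le_sylow
  have hyP : y ∈ P := hP (Subgroup.mem_zpowers y)
  have haP : a • P = P := by
    by_contra hne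
    have h1 := Cfsg.Agent.S1155.result hm hK (a • P) P hne
    have h2 : y ∈ ((a • P : Sylow 3 _) : Subgroup ↥(Cfsg.Lie.twistedG2 K (3 ^ m))) ⊓ (P : Subgroup _) := by
      refine ⟨?_, hyP⟩
      rw [Sylow.coe_subgroup_smul]
      refine ⟨y, hyP, ?_⟩
      show a * y * a⁻¹ = y
      have h3 := Subgroup.mem_centralizer_singleton_iff.1 hyc
      rw [← h3, mul_inv_cancel_right]
    rw [h1, Subgroup.mem_bot] at h2
    exact hy1 h2
  refine exists_real hna (by norm_num) hS P ha1 ha2 ?_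
  intro u hu
  have h1 : a * u * a⁻¹ ∈ (a • P : Sylow 3 _) := by
    show _ ∈ ((a • P : Sylow 3 _) : Subgroup ↥(Cfsg.Lie.twistedG2 K (3 ^ m)))
    rw [Sylow.coe_subgroup_smul]
    exact ⟨u, hu, rfl⟩
  rwa [haP] at h1

/-- **The small Ree groups.** -/
theorem second_ree {S : Type u} [Group S] [Finite S] [IsSimpleGroup S] (hna : ∃ a b : S, a * b ≠ b * a)
    (h : Lie.IsoRee S) : SecondOdd 3 S := by
  classical
  have hS : IsLieTypeChar 3 S := Or.inr (Or.inr (Or.inr (Or.inr (Or.inr (Or.inr (Or.inr (Or.inr (Or.inr (Or.inr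
      ⟨rfl, h⟩)))))))))
  obtain ⟨K, _, _, m, hm, hK, ⟨e⟩⟩ := h
  obtain ⟨x, hx1, ⟨k, hx3⟩, hxr⟩ := ree_real hm hK
  have ho : Odd (MulAut.conj : S →* MulAut S).range.index := by
    have h4 : (MulAut.conj : ↥(Cfsg.Lie.twistedG2 K (3 ^ m)) →* _).range.index = 2 * m + 1 :=
      Cfsg.Agent.S2127.result hm hK
    rw [index_conj e, h4]
    exact ⟨m, rfl⟩
  let T : Sylow 2 (MulAut S) := default
  refine of_point hna Nat.prime_three hS T (x := e.symm x) ?_ ⟨k, ?_⟩ ?_ fun b hb => ?_
  · intro h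
    exact hx1 ((EmbeddingLike.map_eq_one_iff (f := e.symm)).1 h)
  · rw [← map_pow, hx3, map_one]
  · rw [← map_inv]
    obtain ⟨c, hc⟩ := isConj_iff.1 hxr
    exact isConj_iff.2 ⟨e.symm c, by rw [← map_inv, ← map_mul, ← map_mul, hc]⟩
  · obtain ⟨g, rfl⟩ := le_of_odd_index _ _ T.2 ho hb
    exact isConj_iff.2 ⟨g, rfl⟩

end Cfsg.Agent.H494.R4
end

-- part: H494/R4/LieOdd
section
/-!
# The groups of Lie type of odd characteristic other than `PSL(2, q)` (helper494, S4554)

* `second_lie_odd` : a second odd degree, not a power of the characteristic;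
* `row_of` : `Row S` from `EvenO S` and `SecondOdd p S`;
* `row_lie_odd` : `Row S` for the groups of Lie type of odd characteristic other than `PSL(2, q)`.
-/

set_option autoImplicit false
set_option linter.unusedSectionVars false

namespace Cfsg.Agent.H494.R4

open Cfsg Cfsg.Agent.Omega.ML.Ex.Typ
open Cfsg.Agent.H694 (odd_cardF two_ne_zero_of_oddCard)
open Cfsg.Agent.H727.Orth (EvenO evenO_lie_odd)
open Cfsg.Agent.H619.R4

universe u

variable {S : Type u} [Group S] [Finite S] [IsSimpleGroup S] {p : ℕ}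

theorem second_of_ocSetP (hna : ∃ a b : S, a * b ≠ b * a) (hp : p.Prime) (hS : IsLieTypeChar p S)
    (h : OcSetP p S) : SecondOdd p S := by
  obtain ⟨Y, h1, h2, h3⟩ := h
  exact of_classes hna hp hS Y h1 h2 h3

theorem dvd_of_card {F : Type*} [Field F] [Fintype F] {p p' n : ℕ} [CharP F p] (hp : p.Prime) (hp' : p'.Prime)
    (h : p' ∣ n) {k : ℕ} (hk : k ≠ 0) (hF : Fintype.card F = n ^ k) : p' = p := by
  have : Fact p.Prime := ⟨hp⟩
  obtain ⟨m, -, hm⟩ := FiniteField.card F p
  have h1 : p' ∣ p ^ (m : ℕ) := by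
    rw [← hm, hF]
    exact dvd_pow h hk
  exact (Nat.prime_dvd_prime_iff_eq hp' hp).1 (hp'.dvd_of_dvd_pow h1)

/-- **The second odd degree.** -/
theorem second_lie_odd (hna : ∃ a b : S, a * b ≠ b * a) (hp : p.Prime) (hp2 : p ≠ 2)
    (h : IsLieTypeChar p S)
    (hpsl : ¬ ∃ (F : Type) (_ : Field F) (_ : Fintype F),
      Nonempty (S ≃* Matrix.ProjectiveSpecialLinearGroup (Fin 2) F)) : SecondOdd p S := by
  have hfp : Fact p.Prime := ⟨hp⟩
  have hL := h
  rcases h with h | h | h | h | h | h | h | h | h | h | h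
  · obtain ⟨F, i1, i2, _, n, hn, h4, ⟨e⟩⟩ := h
    have hodd := odd_cardF (F := F) hp hp2
    rcases Nat.lt_or_ge n 4 with h5 | h5
    · interval_cases n
      · exact absurd ⟨F, i1, i2, ⟨e⟩⟩ hpsl
      · exact of_ocAt hna hp hL (H610.OddOC.OcAt.of_equiv e.symm (pslP (two_ne_zero_of_oddCard hodd)))
    · obtain ⟨n, rfl⟩ : ∃ k, n = k + 1 := ⟨n - 1, by omega⟩
      exact second_A hna hL (n := n) (by omega) hp hp2
        (((typ_PSL (F := F) (p := p) n).of_equiv e.symm).hasSplitT hp (by omega))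
  · obtain ⟨F, _, _, _, m, hm, -, ⟨e⟩⟩ := h
    rcases Nat.lt_or_ge m 3 with h5 | h5
    · have : m = 2 := by omega
      subst this
      have h2 : (2 : F) ≠ 0 := two_ne_zero_of_oddCard (odd_cardF (F := F) hp hp2)
      exact second_of_noSwap hna hp hp2 hL
        (((typ_PSp (F := F) (p := p) (by norm_num)).of_equiv e.symm).hasSplitT hp (by norm_num))
        ((H288.BnWitt.noSwap_PSp h2).of_equiv e.symm)
    · exact second_B hna hL h5 hp hp2 (((typ_PSp (F := F) (p := p) (by omega)).of_equiv e.symm).hasSplitT hp (by omega))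
  · obtain ⟨F, _, _, _, n, q, hF, hn, -, ⟨e⟩⟩ := h
    have hodd := odd_cardF (F := F) hp hp2
    have h2 : (2 : F) ≠ 0 := two_ne_zero_of_oddCard hodd
    have hq : Odd q := by
      rw [hF] at hodd
      exact Nat.Odd.of_mul_left (by rwa [sq] at hodd)
    rcases Nat.lt_or_ge n 6 with h5 | h5
    · interval_cases n
      · exact of_ocAt hna hp hL (H610.OddOC.OcAt.of_equiv e.symm (psuP hF h2))
      · obtain ⟨m, hm, h6⟩ := typ_PSU hF (N := 4) (by norm_num) (p := p)
        have hm2 : m = 2 := by omega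
        subst hm2
        exact second_of_noSwap hna hp hp2 hL ((h6.of_equiv e.symm).hasSplitT hp (by norm_num))
          ((H288.BnWitt.noSwap_PSU4 hF).of_equiv e.symm)
      · obtain ⟨m, hm, h6⟩ := typ_PSU hF (N := 5) (by norm_num) (p := p)
        have hm2 : m = 2 := by omega
        subst hm2
        exact second_of_noSwap hna hp hp2 hL ((h6.of_equiv e.symm).hasSplitT hp (by norm_num))
          ((H288.BnWitt.noSwap_PSU5 hF).of_equiv e.symm)
    · obtain ⟨m, hm, h6⟩ := typ_PSU (F := F) (p := p) hF hn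
      exact second_B hna hL (by omega) hp hp2 ((h6.of_equiv e.symm).hasSplitT hp (by omega))
  · obtain ⟨F, _, _, _, m, hm, hodd, ⟨e⟩⟩ := h
    have h2 : (2 : F) ≠ 0 := two_ne_zero_of_oddCard hodd
    exact second_B hna hL (by omega) hp hp2
      (((H580.LieFam.typ_PO_odd (p := p) h2 (by omega)).of_equiv e.symm).hasSplitT hp (by omega))
  · obtain ⟨F, _, _, _, m, hm, ⟨e⟩⟩ := h
    obtain ⟨n, rfl⟩ := Nat.exists_eq_add_of_le (show 3 ≤ m by omega)
    have h1 : HasRGDT p (Nodes.TypeD.M (n + 1)) S := by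
      rw [add_comm 3 n] at e
      exact (typ_PO_plus (F := F) n).of_equiv e.symm
    rcases Nat.lt_or_ge n 2 with h5 | h5
    · have : n = 1 := by omega
      subst this
      exact second_D4 hna hL hp hp2 (h1.hasSplitT hp (by norm_num))
    · exact second_D hna hL (n := n + 1) (by omega) hp hp2 (h1.hasSplitT hp (by omega))
  · obtain ⟨F, _, _, _, m, a, b, hm, hab, ⟨e⟩⟩ := h
    exact second_B hna hL (by omega) hp hp2
      (((typ_PO_minus (F := F) (p := p) hab (by omega)).of_equiv e.symm).hasSplitT hp (by omega))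
  · obtain ⟨F, _, _, _, ⟨-, ⟨e⟩⟩ | ⟨⟨e⟩⟩ | ⟨⟨e⟩⟩ | ⟨⟨e⟩⟩ | ⟨⟨e⟩⟩⟩ := h
    · exact second_of_ocSetP hna hp hL ((g2P (p := p) (odd_cardF (F := F) hp hp2)).of_equiv e.symm)
    · exact second_F4 hna hL hp hp2 (((typ_group (by
        simp [Cfsg.Agent.Nodes.RGDChev.IsType, Cfsg.Agent.Nodes.RGDChev.typeList]) F p :
          HasRGDT p CoxeterMatrix.F₄ ↥(Lie.chevF4.group F)).of_equiv e.symm).hasSplitT hp (by norm_num))
    · exact second_E6 hna hL hp hp2 (((typ_group (by
        simp [Cfsg.Agent.Nodes.RGDChev.IsType, Cfsg.Agent.Nodes.RGDChev.typeList]) F p :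
          HasRGDT p CoxeterMatrix.E₆ ↥(Lie.chevE6.group F)).of_equiv e.symm).hasSplitT hp (by norm_num))
    · exact second_E7 hna hL hp hp2 (((typ_group (by
        simp [Cfsg.Agent.Nodes.RGDChev.IsType, Cfsg.Agent.Nodes.RGDChev.typeList]) F p :
          HasRGDT p CoxeterMatrix.E₇ ↥(Lie.chevE7.group F)).of_equiv e.symm).hasSplitT hp (by norm_num))
    · exact second_E8 hna hL hp hp2 (((typ_group (by
        simp [Cfsg.Agent.Nodes.RGDChev.IsType, Cfsg.Agent.Nodes.RGDChev.typeList]) F p :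
          HasRGDT p CoxeterMatrix.E₈ ↥(Lie.chevE8.group F)).of_equiv e.symm).hasSplitT hp (by norm_num))
  · obtain ⟨K, _, _, _, q, hq, ⟨hK, ⟨e⟩⟩ | ⟨hK, ⟨e⟩⟩⟩ := h
    · exact second_F4 hna hL hp hp2
        (((typ_twE6 hq hK p).of_equiv e.symm).hasSplitT hp (by norm_num))
    · have hodd := odd_cardF (F := K) hp hp2
      have hq' : Odd q := by
        rw [hK, pow_succ] at hodd
        exact Nat.Odd.of_mul_right hodd
      have hqp : IsPrimePow q := by
        have h1 := Fintype.isPrimePow_card_of_field (α := K)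
        rw [hK] at h1
        exact (isPrimePow_pow_iff (by norm_num)).1 h1
      obtain ⟨p', hp', hd, h1⟩ := d4P (K := K) hqp hK hq'
      have h2 := dvd_of_card (F := K) hp hp' hd (by norm_num) hK
      subst h2
      exact second_of_ocSetP hna hp hL (h1.of_equiv e.symm)
  · exact absurd h.1 hp2
  · exact absurd h.1 hp2
  · obtain ⟨h3, h⟩ := h
    subst h3
    exact second_ree hna h

/-- the characteristic divides the order -/
theorem dvd_card_lie (hna : ∃ a b : S, a * b ≠ b * a) (hp : p.Prime) (hL : IsLieTypeChar p S) : p ∣ Nat.card S := by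
  have : Fact p.Prime := ⟨hp⟩
  by_contra h
  let P : Sylow p S := default
  have h1 : (P : Subgroup S) = ⊥ := by
    rw [← Subgroup.card_eq_one, P.card_eq_multiplicity, Nat.factorization_eq_zero_of_not_dvd h, pow_zero]
  obtain ⟨a, b, hab⟩ := hna
  apply hab
  have h2 : a = 1 := by
    refine H949.LieDZ.regular_centralizer ⟨a, b, hab⟩ hL P (y := a) ?_ ?_
    · rw [Subgroup.mem_centralizer_iff]
      intro x hx
      have h3 : x = 1 := by
        have h4 : x ∈ (P : Subgroup S) := hx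
        rwa [h1, Subgroup.mem_bot] at h4
      rw [h3, one_mul, mul_one]
    · intro h3
      exact h (h3.trans (orderOf_dvd_natCard a))
  rw [h2, one_mul, mul_one]

/-- **`Row S` from an even degree and a second odd degree.** -/
theorem row_of (hna : ∃ a b : S, a * b ≠ b * a) (hp : p.Prime) (hp2 : p ≠ 2) (hL : IsLieTypeChar p S)
    (hE : EvenO S) (h2 : SecondOdd p S) : Row S := by
  intro G _ _ N _ ⟨f⟩ hC _
  have : Fact p.Prime := ⟨hp⟩
  have hodd := hp.odd_of_ne_two hp2
  have : Nontrivial N := f.symm.toEquiv.nontrivial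
  have hs : IsSimpleGroup N := IsSimpleGroup.isSimpleGroup_of_surjective f.toMonoidHom f.surjective
  have hspl := H979.LieSplit.hasSplit_of_isLieTypeChar hp (OddHalf.Known.isLieTypeChar_congr f hL)
  have hdvd : p ∣ Nat.card N := by
    rw [← Nat.card_congr f.toEquiv]
    exact dvd_card_lie hna hp hL
  obtain ⟨b, hb, hbd⟩ := rd_even hE N f
  obtain ⟨c, hc, hcp, hcd⟩ := h2 G N ⟨f⟩ hC
  refine ⟨_, b, c, ?_, ?_, ?_, H685.R4.rd_steinberg N hspl hdvd, hbd, hcd⟩
  · intro h
    rw [← h] at hb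
    exact absurd (hodd.pow (n := (Nat.card N).factorization p)) (Nat.not_odd_iff_even.2 hb)
  · intro h
    exact hcp _ h.symm
  · intro h
    rw [h] at hb
    exact absurd hc (Nat.not_odd_iff_even.2 hb)

/-- **The groups of Lie type of odd characteristic other than `PSL(2, q)`.** -/
theorem row_lie_odd (hna : ∃ a b : S, a * b ≠ b * a) (hp : p.Prime) (hp2 : p ≠ 2) (hL : IsLieTypeChar p S)
    (hpsl : ¬ ∃ (F : Type) (_ : Field F) (_ : Fintype F),
      Nonempty (S ≃* Matrix.ProjectiveSpecialLinearGroup (Fin 2) F)) : Row S :=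
  row_of hna hp hp2 hL (evenO_lie_odd (center_bot hna) hp hp2 hL hpsl) (second_lie_odd hna hp hp2 hL hpsl)

end Cfsg.Agent.H494.R4
end
end
end
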